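import Groth.Agent.H28Int.Stalk
import Groth.Agent.H22Alg.VarDim
import Groth.Agent.H11Ample.Ample
import Groth.Agent.H17.InvertibleTensor

/-!
# Positivity of intersection numbers of ample modules
-/

set_option autoImplicit false
set_option linter.style.haveILetI false
universe u

open CategoryTheory CategoryTheory.Limits AlgebraicGeometry Opposite TopologicalSpace
open Groth.Agent.H8Props.FieldDim (cdim)

namespace Groth.Agent.H28Int

variable {X : Scheme.{u}}

theorem isInvertible_structureModule (Y : Scheme.{u}) : PicF.IsInvertible (Coh.structureModule Y) :=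
  fun _ => ⟨⊤, trivial, ⟨Scheme.Modules.restrictUnitIso _⟩⟩

/-- The direct image of the structure sheaf of an integral closed subscheme has no nonzero submodule
vanishing at the generic point. -/
theorem isZero_of_mono_push {Z : Scheme.{u}} (i : Z ⟶ X) [IsClosedImmersion i] [IsIntegral Z]
    {N : X.Modules} (f : N ⟶ (Coh.push i).obj (Coh.structureModule Z)) [Mono f]
    (h : i (genericPoint Z) ∉ CohB1.support N) : IsZero N := by
  refine LeadDev.isZero_of_sections fun U s => ?_
  refine H10Coh.injective_app_of_mono' f U (Eq.trans ?_ (map_zero _).symm)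
  by_cases hU : i (genericPoint Z) ∈ U
  · haveI : Subsingleton (N.presheaf.stalk (i (genericPoint Z))) := not_not.1 h
    obtain ⟨V, hV, iU, iU', hres⟩ := TopCat.Presheaf.germ_eq N.presheaf _ hU hU s 0 (Subsingleton.elim _ _)
    rw [map_zero] at hres
    refine LeadDev.push_section_eq_zero i (ξ := i (genericPoint Z)) rfl (leOfHom iU) (Or.inl hV) (f.app U s) ?_
    exact (congr($(f.mapPresheaf.naturality iU.op) s)).symm.trans
      ((congrArg (f.app V) hres).trans (map_zero _))
  · refine LeadDev.push_section_eq_zero i (ξ := i (genericPoint Z)) rfl (le_refl U) (Or.inr hU) (f.app U s) ?_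
    have hsub : i ⁻¹ᵁ U = ⊥ := Opens.ext (Set.eq_empty_of_forall_notMem fun z hz =>
      hU ((genericPoint_specializes z).map i.continuous |>.mem_open U.2 hz))
    haveI : Subsingleton Γ(Z, i ⁻¹ᵁ U) := by rw [hsub]; infer_instance
    exact @Subsingleton.elim Γ(Z, i ⁻¹ᵁ U) _ _ _

theorem cdim_le_of_mem {C : Set X} (hC : IsClosed C) {x : X} (hx : x ∈ C) : cdim x ≤ topologicalKrullDim C :=
  dim_le_of_subset (closure_minimal (Set.singleton_subset_iff.2 hx) hC)

/-- A closed subset of positive dimension bound is reached at a point. -/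
theorem exists_le_cdim {C : Set X} (hC : IsClosed C) {r : ℕ}
    (hr : topologicalKrullDim C = (r : WithBot ℕ∞)) : ∃ x ∈ C, (r : WithBot ℕ∞) ≤ cdim x := by
  haveI : QuasiSober C := hC.isClosedEmbedding_subtypeVal.quasiSober
  obtain ⟨s, hs⟩ := (Order.le_krullDim_iff (α := IrreducibleCloseds C)).1 hr.ge
  let z := (s.last).2.genericPoint
  refine ⟨z.1, z.2, ?_⟩
  have h := H28Top.chain_le_dim_of_subset s (Y := closure {z})
    ((s.last).2.closure_genericPoint (s.last).3).ge
  rw [hs] at h
  refine le_trans (b := topologicalKrullDim (closure {z} : Set C)) (by exact_mod_cast h) ?_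
  have hm : ∀ y : (closure {z} : Set C), (y.1.1 : X) ∈ closure ({z.1} : Set X) := fun y =>
    closure_subtype.1 y.2 |> fun h => by simpa using h
  refine Topology.IsInducing.topologicalKrullDim_le (f := fun y : (closure {z} : Set C) =>
    (⟨y.1.1, hm y⟩ : closure ({z.1} : Set X))) ?_
  exact ((Topology.IsEmbedding.subtypeVal.comp Topology.IsEmbedding.subtypeVal).codRestrict _ hm).isInducing

section field

variable (k : Type u) [Field k] [X.Over (Spec (CommRingCat.of k))] [IsProper (X ↘ Spec (CommRingCat.of k))]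

theorem support_push_structure_eq {Z : Scheme.{u}} (i : Z ⟶ X) [IsClosedImmersion i] [IsIntegral Z]
    [IsNoetherian X] : CohB1.support ((Coh.push i).obj (Coh.structureModule Z)) = Set.range i := by
  refine Set.Subset.antisymm (fun x hx => ?_) ?_
  · by_contra hxr
    exact LeadDev.notMem_support_push i _ hxr hx
  · refine LeadDev.range_subset_of_support Z i ‹_› ‹_› _ (𝟙 _) inferInstance H10Coh.isQuasicoherent_unit ?_ _ le_rfl
    intro hz
    have h0 : (1 : Γ(Z, ⊤)) = 0 := LeadDev.app_eq_zero_of_isZero hz (U := ⊤) (show Γ(Coh.structureModule Z, ⊤) from (1 : Γ(Z, ⊤)))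
    haveI : Nonempty ↥(⊤ : Z.Opens) := ⟨⟨genericPoint Z, trivial⟩⟩
    exact one_ne_zero h0

/-- Euler characteristic of a finite integral subscheme. -/
theorem euler_push_structure_pos {Z : Scheme.{u}} (i : Z ⟶ X) [IsClosedImmersion i] [IsIntegral Z]
    (hd : topologicalKrullDim (Set.range i) ≤ ((0 : ℕ) : WithBot ℕ∞)) :
    0 < Curv2.euler k X ((Coh.push i).obj (Coh.structureModule Z)) := by
  haveI := isNoetherian k (X := X)
  haveI : X.IsSeparated := Scheme.IsSeparated.mk (by
    rw [← terminal.comp_from (X ↘ Spec (CommRingCat.of k))]; infer_instance)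
  let A := (Coh.push i).obj (Coh.structureModule Z)
  have hA : Coh.IsCoh A := LeadDev.isCoh_push_structure i
  rw [H25Euler.euler_eq_sum A 1 fun p hp => @Equiv.subsingleton _ _ (H10Coh.HHEquiv A p).toEquiv
    (subsingleton_HnM_of_support (X := X) ⟨Set.range i, i.isClosedEmbedding.isClosed_range⟩ 0 hd A hA.1
      (support_push_structure_eq i).le p (by omega))]
  simp only [Finset.range_one, Finset.sum_singleton, pow_zero, one_mul]
  haveI : Module.Finite k (Coh.HH X A 0) := H10Coh.finite_HH_proper k X A hA 0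
  haveI : Nontrivial (Coh.HH X A 0) := by
    let e : Coh.HH X A 0 ≃ Γ(Z, i ⁻¹ᵁ ⊤) :=
      (H10Coh.HHEquiv A 0).toEquiv.trans (H10Coh.H0Equiv (H10Coh.sh A) ⊤).toEquiv
    haveI : Nonempty ↥(i ⁻¹ᵁ (⊤ : X.Opens)) := ⟨⟨genericPoint Z, trivial⟩⟩
    exact e.nontrivial
  exact_mod_cast Module.finrank_pos (R := k) (M := Coh.HH X A 0)

theorem D_cons_structure {l : List X.Modules} (hl : ∀ A ∈ l, PicF.IsInvertible A) (F : X.Modules) :
    D k (Coh.structureModule X :: l) F = 0 := by
  show D k l F - D k l _ = 0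
  rw [(isAddFn_D k l hl).congr (H10Coh.Tw.leftUnitIso F), sub_self]

theorem D_cons_pow {l : List X.Modules} (hl : ∀ A ∈ l, PicF.IsInvertible A) {M F : X.Modules}
    (hM : PicF.IsInvertible M) (hF : Coh.IsCoh F)
    (hd : topologicalKrullDim (CohB1.support F) ≤ ((l.length + 1 : ℕ) : WithBot ℕ∞)) :
    ∀ a : ℕ, D k (CohB1.tensorPow M a :: l) F = a * D k (M :: l) F
  | 0 => by simpa using (show D k (CohB1.tensorPow M 0 :: l) F = 0 from D_cons_structure k hl F)
  | a + 1 => by
    rw [show CohB1.tensorPow M (a + 1) = CohB1.tensorMod (CohB1.tensorPow M a) M from rfl,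
      D_cons_tensor k hl (H11Ample.isInvertible_tensorPow hM a) hM hF hd, D_cons_pow hl hM hF hd a]
    push_cast
    ring

include k in
/-- Cutting an integral subscheme by a section of an ample module drops the dimension by one. -/
theorem exists_point_cut {L : X.Modules} (hL : PicF.IsInvertible L) (g : Γ(L, ⊤)) {ξ : X}
    (hξ : ξ ∈ H11Ample.gen L g) (hne : (closure ({ξ} : Set X) \ (H11Ample.gen L g : Set X)).Nonempty) :
    ∃ w, w ∈ closure ({ξ} : Set X) ∧ w ∉ H11Ample.gen L g ∧ cdim ξ = cdim w + 1 := by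
  haveI := isNoetherian k (X := X)
  let G := H11Ample.gen L g
  let T : Set X := closure {ξ} \ G
  have hT : IsClosed T := isClosed_closure.sdiff G.2
  haveI : QuasiSober T := hT.isClosedEmbedding_subtypeVal.quasiSober
  obtain ⟨w₀, hw₀⟩ := hne
  let Cmp : Set T := irreducibleComponent ⟨w₀, hw₀⟩
  have hirr : IsIrreducible Cmp := isIrreducible_irreducibleComponent
  let wT := hirr.genericPoint
  have hwgen : closure {wT} = Cmp := hirr.closure_genericPoint isClosed_irreducibleComponent
  have hmax : ∀ y : T, y ⤳ wT → y = wT := fun y hy => by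
    have hsub : Cmp ⊆ closure {y} := hwgen ▸ closure_minimal
      (Set.singleton_subset_iff.2 (specializes_iff_mem_closure.1 hy)) isClosed_closure
    have heq := eq_irreducibleComponent (isIrreducible_singleton.closure.isPreirreducible) hsub
    have h' : wT ⤳ y := specializes_iff_mem_closure.2 (by
      rw [hwgen]
      exact heq.le (subset_closure rfl))
    exact (hy.antisymm h').eq
  obtain ⟨w, hw⟩ : ∃ w : X, w = wT.1 := ⟨_, rfl⟩
  have hwξ : ξ ⤳ w := specializes_iff_mem_closure.2 (hw ▸ wT.2.1)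
  have hwG : w ∉ G := hw ▸ wT.2.2
  refine ⟨w, hwξ.mem_closure, hwG, H22Alg.VarDim.cdim_of_immediate k X (X ↘ Spec (CommRingCat.of k)) hwξ
    (fun e => hwG (e ▸ hξ)) fun z hz hzw => ?_⟩
  by_contra hcon
  rw [not_or] at hcon
  by_cases hzG : z ∈ G
  swap
  · exact hcon.2 (hw ▸ congrArg Subtype.val (hmax ⟨z, specializes_iff_mem_closure.1 hz, hzG⟩
      ((subtype_specializes_iff _ _).2 (hw ▸ hzw))))
  obtain ⟨W, hW, hwW, -⟩ := exists_isAffineOpen_mem_and_subset (U := (⊤ : X.Opens)) (x := w) trivial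
  obtain ⟨V, e, hwV, he⟩ := H11Ample.exists_gen hL w
  obtain ⟨U, hU, hwU, hUV⟩ := exists_isAffineOpen_mem_and_subset (U := W ⊓ V) (x := w) ⟨hwW, hwV⟩
  have he' := he.res (hUV.trans inf_le_right)
  obtain ⟨c, hc⟩ := H11Ample.exists_coeff he' (L.presheaf.map (homOfLE (le_top : U ≤ ⊤)).op g)
  have hb : G ⊓ U = X.basicOpen c := H11Ample.gen_inf_eq_basicOpen he' g c hc
  have hzU : z ∈ U := hzw.mem_open U.2 hwU
  have hξU : ξ ∈ U := hz.mem_open U.2 hzU
  have hr : ∀ y ∈ U, ∃ p : PrimeSpectrum Γ(X, U), hU.fromSpec p = y := fun y hy =>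
    (hU.range_fromSpec.ge hy : y ∈ Set.range hU.fromSpec)
  obtain ⟨q, hq⟩ := hr w hwU
  obtain ⟨p, hp⟩ := hr z hzU
  obtain ⟨P, hP⟩ := hr ξ hξU
  have hmemc : ∀ t : PrimeSpectrum Γ(X, U), (hU.fromSpec t ∈ G ↔ c ∉ t.asIdeal) := fun t => by
    have h1 : hU.fromSpec t ∈ X.basicOpen c ↔ c ∉ t.asIdeal := by
      have h2 : hU.fromSpec t ∈ hU.fromSpec '' ((PrimeSpectrum.basicOpen c : Opens (PrimeSpectrum Γ(X, U))) :
          Set (PrimeSpectrum Γ(X, U))) ↔ hU.fromSpec t ∈ X.basicOpen c :=
        Iff.of_eq (congrArg (hU.fromSpec t ∈ ·) (congrArg SetLike.coe (hU.fromSpec_image_basicOpen c)))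
      rw [← h2]
      exact hU.fromSpec.isOpenEmbedding.injective.mem_set_image
    rw [← h1, ← hb]
    exact ⟨fun h => ⟨h, hU.range_fromSpec.le ⟨t, rfl⟩⟩, fun h => h.1⟩
  have hle : ∀ {s t : PrimeSpectrum Γ(X, U)}, hU.fromSpec s ⤳ hU.fromSpec t → s.asIdeal ≤ t.asIdeal :=
    fun h => (PrimeSpectrum.le_iff_specializes _ _).mpr
      (hU.fromSpec.isOpenEmbedding.isInducing.specializes_iff.mp h)
  have hPp : P.asIdeal < p.asIdeal := lt_of_le_of_ne (hle (hP ▸ hp ▸ hz)) fun e' =>
    hcon.1 (by rw [← hp, ← hP, PrimeSpectrum.ext e'])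
  have hpq : p.asIdeal < q.asIdeal := lt_of_le_of_ne (hle (hp ▸ hq ▸ hzw)) fun e' =>
    hcon.2 (by rw [← hp, ← hq, PrimeSpectrum.ext e'])
  haveI := P.2
  let π := Ideal.Quotient.mk P.asIdeal
  haveI : IsNoetherianRing Γ(X, U) := IsLocallyNoetherian.component_noetherian ⟨U, hU⟩
  have hpr : ∀ t : PrimeSpectrum Γ(X, U), P.asIdeal ≤ t.asIdeal → (t.asIdeal.map π).IsPrime := fun t ht => by
    haveI := t.2
    exact Ideal.isPrime_map_quotientMk_of_isPrime ht
  haveI := hpr p hPp.le
  haveI := hpr q (hPp.le.trans hpq.le)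
  have hcomap : ∀ t : PrimeSpectrum Γ(X, U), P.asIdeal ≤ t.asIdeal → (t.asIdeal.map π).comap π = t.asIdeal :=
    fun t ht => by rw [Ideal.comap_map_quotientMk, sup_eq_right.2 ht]
  have h1 : (⊥ : Ideal (Γ(X, U) ⧸ P.asIdeal)) < p.asIdeal.map π := bot_lt_iff_ne_bot.2 fun h0 => hPp.ne (by
    rw [← hcomap p hPp.le, h0, ← RingHom.ker_eq_comap_bot, Ideal.mk_ker])
  have h2 : p.asIdeal.map π < q.asIdeal.map π := lt_of_le_of_ne (Ideal.map_mono hpq.le) fun h0 => hpq.ne (by
    rw [← hcomap p hPp.le, h0, hcomap q (hPp.le.trans hpq.le)])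
  have hmin : q.asIdeal.map π ∈ (Ideal.span {π c}).minimalPrimes := by
    refine ⟨⟨inferInstance, (Ideal.span_singleton_le_iff_mem _).2 (Ideal.mem_map_of_mem π ?_)⟩,
      fun J ⟨hJ, hJc⟩ hJq => ?_⟩
    · by_contra hn
      exact hwG (hq ▸ (hmemc q).2 hn)
    · let t : PrimeSpectrum Γ(X, U) := ⟨J.comap π, Ideal.IsPrime.comap π⟩
      have htq : t.asIdeal ≤ q.asIdeal := (Ideal.comap_mono hJq).trans (hcomap q (hPp.le.trans hpq.le)).le
      have htP : P.asIdeal ≤ t.asIdeal := fun a ha => by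
        show π a ∈ J
        rw [Ideal.Quotient.eq_zero_iff_mem.2 ha]
        exact zero_mem _
      have hspec : ∀ {s t : PrimeSpectrum Γ(X, U)}, s.asIdeal ≤ t.asIdeal → hU.fromSpec s ⤳ hU.fromSpec t :=
        fun h => ((PrimeSpectrum.le_iff_specializes _ _).1 h).map hU.fromSpec.continuous
      have hnG : hU.fromSpec t ∉ G := fun h =>
        (hmemc t).1 h (hJc (Ideal.mem_span_singleton_self _))
      have hteq := hmax ⟨hU.fromSpec t, specializes_iff_mem_closure.1 (hP ▸ hspec htP), hnG⟩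
        ((subtype_specializes_iff _ _).2 (hw ▸ hq ▸ hspec htq))
      have : t = q := hU.fromSpec.isOpenEmbedding.injective
        ((congrArg Subtype.val hteq).trans (hw.symm.trans hq.symm))
      rw [← this]
      exact Ideal.map_comap_le
  have hh := Ideal.height_le_one_of_isPrincipal_of_mem_minimalPrimes (Ideal.span {π c}) _ hmin
  have h3 := Ideal.height_strict_mono_of_isPrime_of_isPrime h2
  have h4 := Ideal.height_strict_mono_of_isPrime_of_isPrime h1
  have hfin := h3.trans_le hh
  rw [Ideal.height_bot] at h4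
  exact absurd (Order.one_le_iff_pos.2 h4) (not_le.2 hfin)

omit [IsProper (X ↘ Spec (CommRingCat.of k))] [X.Over (Spec (CommRingCat.of k))] in
/-- A closed subset missing the generic point has smaller dimension. -/
theorem dim_lt_of_notMem {ξ : X} {C S : Set X} (hcl : closure {ξ} = C) {n : ℕ}
    (hd : topologicalKrullDim C ≤ (n : WithBot ℕ∞)) (hS : IsClosed S) (hsub : ∀ x ∈ S, x ∈ C) (hξ : ξ ∉ S) :
    topologicalKrullDim S < (n : WithBot ℕ∞) := by
  haveI : QuasiSober C := (hcl ▸ isClosed_closure).isClosedEmbedding_subtypeVal.quasiSober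
  have h := H25Euler.dim_lt_of_forall_ne (Y := C) (Subtype.val ⁻¹' S) (hS.preimage continuous_subtype_val)
    (fun y _ => ⟨⟨ξ, hcl ▸ subset_closure rfl⟩, (subtype_specializes_iff _ _).2
      (specializes_iff_mem_closure.2 (by rw [hcl]; exact y.2)), hξ⟩)
    (lt_of_le_of_lt hd (WithBot.coe_lt_coe.2 (ENat.natCast_lt_natCast.2 (Nat.lt_succ_self n))))
  let e : S ≃ₜ (Subtype.val ⁻¹' S : Set C) :=
    { toFun := fun x => ⟨⟨x.1, hsub x.1 x.2⟩, x.2⟩
      invFun := fun x => ⟨x.1.1, x.2⟩
      left_inv := fun _ => rfl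
      right_inv := fun _ => rfl }
  rwa [e.isHomeomorph.topologicalKrullDim_eq]

include k in
/-- An integral closed subscheme of a proper scheme contained in an affine open is a point. -/
theorem dim_le_zero_of_affine {Z : Scheme.{u}} (i : Z ⟶ X) [IsClosedImmersion i] [IsIntegral Z]
    {U : X.Opens} (hU : IsAffineOpen U) (hsub : Set.range i ⊆ U) {ξ : X} (hcl : closure {ξ} = Set.range i) :
    cdim ξ ≤ ((0 : ℕ) : WithBot ℕ∞) := by
  have htop : i ⁻¹ᵁ U = ⊤ := Opens.ext (Set.eq_univ_of_forall fun z => hsub ⟨z, rfl⟩)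
  haveI : IsAffine Z := by
    have h := hU.preimage i
    rw [htop] at h
    exact IsAffine.of_isIso Z.topIso.inv (h := h)
  let q := i ≫ (X ↘ Spec (CommRingCat.of k))
  haveI : IsFinite q := IsFinite.iff_isProper_and_isAffineHom.2 ⟨inferInstance, inferInstance⟩
  haveI : Finite Z := by
    haveI : Subsingleton (Spec (CommRingCat.of k)) := inferInstanceAs (Subsingleton (PrimeSpectrum k))
    have h := q.finite_preimage_singleton (IsLocalRing.closedPoint k)
    have hu : q ⁻¹' {IsLocalRing.closedPoint k} = Set.univ := Set.eq_univ_of_forall fun z => Subsingleton.elim _ _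
    exact Set.finite_univ_iff.1 (h.subset hu.ge)
  haveI : JacobsonSpace Z := LocallyOfFiniteType.jacobsonSpace q
  haveI : DiscreteTopology Z := inferInstance
  haveI : Subsingleton Z := ⟨fun a b => (isPreirreducible_iff_subsingleton.1
    (PreirreducibleSpace.isPreirreducible_univ (X := Z))) trivial trivial⟩
  rw [Groth.Agent.H8Props.FieldDim.cdim, hcl]
  haveI : Subsingleton (Set.range i) := Set.subsingleton_coe _ |>.2 (Set.subsingleton_range i)
  haveI : Subsingleton (IrreducibleCloseds (Set.range i)) := ⟨fun A B => by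
    refine IrreducibleCloseds.ext ?_
    exact (Subsingleton.eq_univ_of_nonempty A.isIrreducible.nonempty).trans (Subsingleton.eq_univ_of_nonempty B.isIrreducible.nonempty).symm⟩
  exact Order.krullDim_nonpos_iff_forall_isMax.2 fun A B h => (Subsingleton.elim B A).le

omit [X.Over (Spec (CommRingCat.of k))] [IsProper (X ↘ Spec (CommRingCat.of k))] in
theorem le_of_add_one_le {n : ℕ} {a : WithBot ℕ∞} (h : ((n + 1 : ℕ) : WithBot ℕ∞) ≤ a + 1) :
    (n : WithBot ℕ∞) ≤ a := by
  rcases a with _ | b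
  · exact absurd h (by rw [WithBot.none_eq_bot, WithBot.bot_add, le_bot_iff]; exact WithBot.coe_ne_bot)
  · have h' : ((n + 1 : ℕ) : ℕ∞) ≤ b + 1 := WithBot.coe_le_coe.1 h
    rw [Nat.cast_add, Nat.cast_one] at h'
    exact WithBot.coe_le_coe.2 ((ENat.add_le_add_iff_right ENat.one_ne_top).1 h')

/-- Positivity follows from positivity on the structure sheaves of integral subschemes. -/
theorem key (l : List X.Modules) (hinv : ∀ A ∈ l, PicF.IsInvertible A)
    (hpos : ∀ (Z : Scheme.{u}) (i : Z ⟶ X) [IsClosedImmersion i] [IsIntegral Z],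
      topologicalKrullDim (Set.range i) ≤ (l.length : WithBot ℕ∞) →
      (l.length : WithBot ℕ∞) ≤ cdim (i (genericPoint Z)) →
      0 < D k l ((Coh.push i).obj (Coh.structureModule Z)))
    {F₀ : X.Modules} (hd : topologicalKrullDim (CohB1.support F₀) ≤ (l.length : WithBot ℕ∞))
    (F : X.Modules) (hF : Coh.IsCoh F) (hs : CohB1.support F ⊆ CohB1.support F₀ := by exact le_rfl) :
    0 ≤ D k l F ∧ ((∃ x ∈ CohB1.support F, (l.length : WithBot ℕ∞) ≤ cdim x) → 0 < D k l F) := by
  haveI := isNoetherian k (X := X)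
  have hψ := isAddFn_D k l hinv
  refine LeadDev.devissage_induction (CohB1.support F₀)
    (fun G => 0 ≤ D k l G ∧ ((∃ x ∈ CohB1.support G, (l.length : WithBot ℕ∞) ≤ cdim x) → 0 < D k l G))
    (fun A B ⟨e⟩ h => ?_) (fun A hA => ?_) (fun S hS h₁ h₂ h₃ p₁ p₃ => ?_) ?_ F hF hs
  · rw [← hψ.congr e]
    exact ⟨h.1, fun ⟨x, hx, hxd⟩ => h.2 ⟨x, LeadDev.support_subset_of_iso e.symm hx, hxd⟩⟩
  · rw [hψ.zero hA]
    exact ⟨le_rfl, fun ⟨x, hx, _⟩ => by simp [LeadDev.support_eq_empty_of_isZero hA] at hx⟩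
  · rw [hψ.add S hS h₁ h₂ h₃]
    refine ⟨add_nonneg p₁.1 p₃.1, fun ⟨x, hx, hxd⟩ => ?_⟩
    rcases LeadDev.support_subset_of_shortExact hS hx with h | h
    · exact add_pos_of_pos_of_nonneg (p₁.2 ⟨x, h, hxd⟩) p₃.1
    · exact add_pos_of_nonneg_of_pos p₁.1 (p₃.2 ⟨x, h, hxd⟩)
  intro Z i _ _ hrange _ I ι _ hI
  let ξ := i (genericPoint Z)
  have hrd : topologicalKrullDim (Set.range i) ≤ (l.length : WithBot ℕ∞) := (dim_le_of_subset hrange).trans hd
  have hcl : closure {ξ} = Set.range i := (LeadDev.range_eq_closure i (ξ := ξ) rfl).symm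
  by_cases hne : IsZero I
  · have hz := (Coh.push i).map_isZero hne
    rw [hψ.zero hz]
    exact ⟨le_rfl, fun ⟨x, hx, _⟩ => by simp [LeadDev.support_eq_empty_of_isZero hz] at hx⟩
  haveI : I.IsQuasicoherent := hI
  let A := (Coh.push i).obj (Coh.structureModule Z)
  let G := (Coh.push i).obj I
  have hA : Coh.IsCoh A := LeadDev.isCoh_push_structure i
  have hG : Coh.IsCoh G := H10Coh.isCoh_of_mono ((Coh.push i).map ι) (H10Coh.isQuasicoherent_pushforward i I) hA
  let φ := (Coh.push i).map ι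
  have hQ := H10Coh.isCoh_cokernel φ hG.1 hA
  have hS : (ShortComplex.mk φ (cokernel.π φ) (cokernel.condition φ)).ShortExact :=
    ShortComplex.ShortExact.mk' (ShortComplex.exact_cokernel φ) inferInstance inferInstance
  obtain ⟨W, hW, hξW, -⟩ := exists_isAffineOpen_mem_and_subset (U := (⊤ : X.Opens)) (x := ξ) trivial
  have hQ0 : D k l (cokernel φ) = 0 := D_eq_zero k l hinv _ hQ
    (dim_lt_of_notMem hcl hrd (H10Coh.isClosed_support _ hQ.2)
      (fun x hx => (support_push_structure_eq i).le (LeadDev.support_subset_of_epi (cokernel.π φ) hx))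
      (LeadDev.notMem_support_cokernel φ hG.1 hA.1 hW hξW (LeadDev.surjAt_push_map i rfl I ι hI hne hW hξW)))
  have hadd := hψ.add _ hS hG hA hQ
  change D k l A = D k l G + D k l (cokernel φ) at hadd
  rw [hQ0, add_zero] at hadd
  rw [← hadd]
  by_cases hge : (l.length : WithBot ℕ∞) ≤ cdim ξ
  · exact ⟨(hpos Z i hrd hge).le, fun _ => hpos Z i hrd hge⟩
  · have h0 : D k l A = 0 := D_eq_zero k l hinv A hA (by
      rw [support_push_structure_eq i, ← hcl]; exact not_le.1 hge)
    rw [h0]
    refine ⟨le_rfl, fun ⟨x, hx, hxd⟩ => absurd (hxd.trans ?_) hge⟩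
    have : x ∈ Set.range i := (support_push_structure_eq i).le (LeadDev.support_subset_of_mono φ hx)
    exact cdim_le_of_mem isClosed_closure (hcl.symm ▸ this)

/-- Nonnegativity, and positivity in the top dimension. -/
theorem pos_of_ample : ∀ l : List X.Modules, (∀ M ∈ l, ∃ L, CohB1.IsAmple L ∧
      Nonempty (CohB1.tensorMod L M ≅ Coh.structureModule X)) →
    ∀ F : X.Modules, Coh.IsCoh F → topologicalKrullDim (CohB1.support F) ≤ (l.length : WithBot ℕ∞) →
      0 ≤ D k l F ∧ ((∃ x ∈ CohB1.support F, (l.length : WithBot ℕ∞) ≤ cdim x) → 0 < D k l F) := by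
  haveI := isNoetherian k (X := X)
  intro l
  induction l with
  | nil =>
    intro hl F hF hd
    exact key k [] (by simp) (fun Z i _ _ h _ => euler_push_structure_pos k i h) hd F hF
  | cons M l ih =>
    intro hl F hF hd
    obtain ⟨L, hL, ⟨e⟩⟩ := hl M List.mem_cons_self
    have hl' := fun N hN => hl N (List.mem_cons_of_mem M hN)
    have hMi := H17.InvertibleTensor.isInvertible_of_tensor_iso M L (H10Coh.Tw.commIso M L ≪≫ e)
    have hinv : ∀ N ∈ l, PicF.IsInvertible N := fun N hN => by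
      obtain ⟨L', -, ⟨e'⟩⟩ := hl' N hN
      exact H17.InvertibleTensor.isInvertible_of_tensor_iso N L' (H10Coh.Tw.commIso N L' ≪≫ e')
    refine key k (M :: l) (List.forall_mem_cons.2 ⟨hMi, hinv⟩) (fun Z i _ _ h hge => ?_) hd F hF
    let ξ := i (genericPoint Z)
    let A := (Coh.push i).obj (Coh.structureModule Z)
    have hA : Coh.IsCoh A := LeadDev.isCoh_push_structure i
    have hsA := support_push_structure_eq i
    have hcl : closure {ξ} = Set.range i := (LeadDev.range_eq_closure i (ξ := ξ) rfl).symm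
    haveI : CompactSpace X := hL.2.1
    haveI : QuasiSeparatedSpace X := quasiSeparatedSpace_of_quasiSeparated (X ↘ Spec (CommRingCat.of k))
    obtain ⟨a, σ, ha, hσ, -, haff⟩ := H11Ample.exists_affine_gen_nhd_finite hL (Set.finite_singleton ξ)
      (U := ⊤) (fun _ _ => trivial)
    let N := CohB1.tensorPow L a
    have hN : PicF.IsInvertible N := H11Ample.isInvertible_tensorPow hL.1 a
    have hne : (closure ({ξ} : Set X) \ (H11Ample.gen N σ : Set X)).Nonempty := by
      by_contra hemp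
      exact not_le.2 (WithBot.coe_lt_coe.2 (ENat.natCast_lt_natCast.2 l.length.succ_pos))
        ((by simpa [List.length_cons] using hge : ((l.length + 1 : ℕ) : WithBot ℕ∞) ≤ cdim ξ).trans
          (dim_le_zero_of_affine k i haff (fun x hx => by_contra fun hn => hemp ⟨x, hcl ▸ hx, hn⟩) hcl))
    obtain ⟨w, hwξ, hwG, hdimw⟩ := exists_point_cut k hN σ (hσ rfl) hne
    let s := H11Tilde.homOfGlobal N σ
    let μ := H25Euler.mulHom A s
    have hB : Coh.IsCoh (CohB1.tensorMod A N) := H11Ample.isCoh_tensor hA hN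
    have hiso : ∀ x ∈ H11Ample.gen N σ, x ∉ CohB1.support (kernel μ) ∧ x ∉ CohB1.support (cokernel μ) :=
      fun x hx => H25Euler.notMem_support_kernel_cokernel μ (x := x) (H25Euler.isIso_stalk_mulHom A s hx)
    have hker : IsZero (kernel μ) := isZero_of_mono_push i (kernel.ι μ) (hiso ξ (hσ rfl)).1
    haveI : Mono μ := Preadditive.mono_of_isZero_kernel μ hker
    have hC := H10Coh.isCoh_cokernel μ hA.1 hB
    have hS : (ShortComplex.mk μ (cokernel.π μ) (cokernel.condition μ)).ShortExact :=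
      ShortComplex.ShortExact.mk' (ShortComplex.exact_cokernel μ) inferInstance inferInstance
    have hd1 : topologicalKrullDim (CohB1.support A) ≤ ((l.length + 1 : ℕ) : WithBot ℕ∞) := by
      rw [hsA]; simpa [List.length_cons] using h
    have hCs : CohB1.support (cokernel μ) ⊆ Set.range i \ (H11Ample.gen N σ : Set X) := fun x hx =>
      ⟨hsA ▸ H25Euler.support_tensor_subset A N (LeadDev.support_subset_of_epi (cokernel.π μ) hx),
        fun hxG => (hiso x hxG).2 hx⟩
    have hCd : topologicalKrullDim (CohB1.support (cokernel μ)) ≤ (l.length : WithBot ℕ∞) := by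
      have h1 : topologicalKrullDim (CohB1.support (cokernel μ)) < ((l.length + 1 : ℕ) : WithBot ℕ∞) :=
        dim_lt_of_notMem hcl (by rw [← hsA]; exact hd1) (H10Coh.isClosed_support _ hC.2)
          (fun x hx => (hCs hx).1) (hiso ξ (hσ rfl)).2
      rcases hdim : topologicalKrullDim (CohB1.support (cokernel μ)) with _ | n
      · exact bot_le
      · rw [hdim] at h1
        have : n < ((l.length + 1 : ℕ) : ℕ∞) := WithBot.coe_lt_coe.1 h1
        exact WithBot.coe_le_coe.2 (ENat.lt_natCast_add_one_iff.1 (by exact_mod_cast this))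
    have hwC : w ∈ CohB1.support (cokernel μ) :=
      Stalk.mem_support_cokernel_mulHom hN σ hA (hsA ▸ hcl ▸ hwξ) hwG
    have hge' : (l.length : WithBot ℕ∞) ≤ cdim w := le_of_add_one_le
      (hdimw ▸ (by simpa [List.length_cons] using hge : ((l.length + 1 : ℕ) : WithBot ℕ∞) ≤ cdim ξ))
    have hposC := (ih hl' _ hC hCd).2 ⟨w, hwC, hge'⟩
    have hadd := (isAddFn_D k l hinv).add _ hS hA hB hC
    change D k l (CohB1.tensorMod A N) = D k l A + D k l (cokernel μ) at hadd
    let Ma := CohB1.tensorPow M a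
    have hMa : PicF.IsInvertible Ma := H11Ample.isInvertible_tensorPow hMi a
    obtain ⟨ea⟩ := H10Coh.Tw.nonempty_tensorPow_inverse e hL.1 hMi a
    have hpow : D k (Ma :: l) A = a * D k (M :: l) A := D_cons_pow k hinv hMi hA hd1 a
    have htw : D k (Ma :: l) (CohB1.tensorMod N A) = D k (Ma :: l) A :=
      D_twist k (l := Ma :: l) (List.forall_mem_cons.2 ⟨hMa, hinv⟩) hN hA (by simpa using hd1)
    have hexp : D k (Ma :: l) (CohB1.tensorMod N A) =
        D k l (CohB1.tensorMod A N) - D k l A := by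
      show D k l (CohB1.tensorMod N A) - D k l (CohB1.tensorMod Ma (CohB1.tensorMod N A)) = _
      rw [(isAddFn_D k l hinv).congr (H10Coh.Tw.commIso N A),
        (isAddFn_D k l hinv).congr ((H10Coh.Tw.assoc Ma N A).symm ≪≫
          PicGrp.tensorModIso (H10Coh.Tw.commIso Ma N ≪≫ ea) (Iso.refl A) ≪≫ H10Coh.Tw.leftUnitIso A)]
    have : (0 : ℤ) < a * D k (M :: l) A := by rw [← hpow, ← htw, hexp, hadd]; omega
    exact pos_of_mul_pos_right this (by positivity)

end field

end Groth.Agent.H28Int
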