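import Groth.Agent.H28Int.Core
import Groth.Agent.H06Mod.StalkFinite
import Mathlib.RingTheory.Nakayama

/-!
# Multiplication by a section is not surjective where the section vanishes
-/

set_option autoImplicit false
set_option linter.style.haveILetI false
universe u

open CategoryTheory CategoryTheory.Limits AlgebraicGeometry Opposite TopologicalSpace
open scoped TensorProduct

namespace Groth.Agent.H28Int.Stalk

/-- Tensoring a map to a free module of rank one with image in `𝔪` is not surjective. -/
theorem not_surjective_lTensor {R : Type u} [CommRing R] [IsLocalRing R] {A L P : Type u}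
    [AddCommGroup A] [Module R A] [Module.Finite R A] [Nontrivial A]
    [AddCommGroup L] [Module R L] [AddCommGroup P] [Module R P]
    (u : P →ₗ[R] L) (ε : L ≃ₗ[R] R) (hu : ∀ p, ε (u p) ∈ IsLocalRing.maximalIdeal R) :
    ¬ Function.Surjective (u.lTensor A) := by
  intro hs
  let Θ : A ⊗[R] L →ₗ[R] A := (TensorProduct.rid R A).toLinearMap ∘ₗ ε.toLinearMap.lTensor A
  have hΘ : Function.Surjective Θ :=
    (TensorProduct.rid R A).surjective.comp (LinearMap.lTensor_surjective A ε.surjective)
  have hle : ∀ t : A ⊗[R] P, Θ (u.lTensor A t) ∈ IsLocalRing.maximalIdeal R • (⊤ : Submodule R A) := by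
    intro t
    induction t using TensorProduct.induction_on with
    | zero => simp
    | add a b ha hb => rw [map_add, map_add]; exact add_mem ha hb
    | tmul a p =>
      simp only [Θ, LinearMap.lTensor_tmul, LinearMap.comp_apply, LinearEquiv.coe_coe, TensorProduct.rid_tmul]
      exact Submodule.smul_mem_smul (hu p) Submodule.mem_top
  have htop : (⊤ : Submodule R A) ≤ IsLocalRing.maximalIdeal R • (⊤ : Submodule R A) := fun a _ => by
    obtain ⟨t, rfl⟩ := hΘ a
    obtain ⟨t, rfl⟩ := hs t
    exact hle t
  exact bot_ne_top.symm (Submodule.eq_bot_of_le_smul_of_le_jacobson_bot (IsLocalRing.maximalIdeal R)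
    (⊤ : Submodule R A) Module.Finite.fg_top htop (IsLocalRing.maximalIdeal_le_jacobson ⊥))

variable {X : Scheme.{u}}

/-- At a point outside the locus where a global section generates, the section is not surjective on
stalks after tensoring with a finite module with nonzero stalk. -/
theorem mem_support_cokernel_mulHom [IsNoetherian X] {L : X.Modules} (hL : PicF.IsInvertible L)
    (g : Γ(L, ⊤)) {F : X.Modules} (hF : Coh.IsCoh F) {w : X} (hwF : w ∈ CohB1.support F)
    (hw : w ∉ H11Ample.gen L g) :
    w ∈ CohB1.support (cokernel (H25Euler.mulHom F (H11Tilde.homOfGlobal L g))) := by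
  by_contra hc
  let s := H11Tilde.homOfGlobal L g
  let St := DerSch.stalkFunctor X w
  have hz : IsZero (St.obj (cokernel (H25Euler.mulHom F s))) := (H25Euler.notMem_support_iff _ w).1 hc
  haveI h1 : Epi (St.map (H25Euler.mulHom F s)) :=
    Preadditive.epi_of_isZero_cokernel _ (hz.of_iso (PreservesCokernel.iso St (H25Euler.mulHom F s)).symm)
  have h2 : Epi (St.map (((DCoh.tensorBi (X := X)).obj F).map s)) := by
    rw [H25Euler.mulHom, St.map_comp, St.map_comp, St.map_comp] at h1
    have h3 := @epi_of_epi _ _ _ _ _ _ _ h1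
    have h4 := @epi_of_epi _ _ _ _ _ _ _ h3
    have h5 : St.map (((DCoh.tensorBi (X := X)).obj F).map s) =
        (St.map (((DCoh.tensorBi (X := X)).obj F).map s) ≫
          St.map (eqToHom (H25Euler.tensorBi_obj_obj F L))) ≫
            inv (St.map (eqToHom (H25Euler.tensorBi_obj_obj F L))) := by simp
    rw [h5]
    infer_instance
  have h6 : Epi ((MonoidalCategory.tensorLeft (St.obj F)).map (St.map s)) := by
    have e := (H16Derived.KFlat.Stalk.leftIso F w).hom.naturality s
    have : Epi ((((DCoh.tensorBi (X := X)).obj F) ⋙ St).map s ≫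
        (H16Derived.KFlat.Stalk.leftIso F w).hom.app L) := by
      haveI : Epi ((((DCoh.tensorBi (X := X)).obj F) ⋙ St).map s) := h2
      infer_instance
    rw [e] at this
    exact @epi_of_epi _ _ _ _ _ _ _ this
  rw [ModuleCat.epi_iff_surjective] at h6
  haveI : Nontrivial (St.obj F) := not_subsingleton_iff_nontrivial.1 hwF
  haveI : Module.Finite (X.presheaf.stalk w) (St.obj F) := H06Mod.finite_stalk F hF.2 w
  obtain ⟨V, e, hwV, he⟩ := H11Ample.exists_gen hL w
  obtain ⟨c, hcc⟩ := H11Ample.exists_coeff he (L.presheaf.map (homOfLE (le_top : V ≤ ⊤)).op g)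
  have hcm : X.presheaf.germ V w hwV c ∈ IsLocalRing.maximalIdeal (X.presheaf.stalk w) := by
    rw [IsLocalRing.mem_maximalIdeal, mem_nonunits_iff]
    intro hu
    have : w ∈ X.basicOpen c := (X.toRingedSpace.mem_basicOpen c w hwV).2 hu
    rw [← H11Ample.gen_inf_eq_basicOpen he g c hcc] at this
    exact hw this.1
  let ε : St.obj L ≃ₗ[X.presheaf.stalk w] X.presheaf.stalk w :=
    (LinearEquiv.ofBijective (LinearMap.toSpanSingleton (X.presheaf.stalk w) (L.presheaf.stalk w)
      (L.presheaf.germ V w hwV e)) (he w hwV)).symm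
  refine not_surjective_lTensor (A := St.obj F) (St.map s).hom ε (fun p => ?_) h6
  let o := (Coh.structureModule X).presheaf.germ ⊤ w trivial (H11Ample.one ⊤)
  obtain ⟨r, hr⟩ := (H11Ample.isGen_one (X := X) ⊤ w trivial).2 p
  have hro : r • (show St.obj (Coh.structureModule X) from o) = p := hr
  have ho : (St.map s).hom o = X.presheaf.germ V w hwV c • (L.presheaf.germ V w hwV e) := by
    refine (H10Coh.germ_app s ⊤ w trivial (H11Ample.one ⊤)).trans ?_
    rw [show s.app ⊤ (H11Ample.one ⊤) = g from (H11Tilde.homOfGlobal_app L g ⊤ _).trans (by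
      rw [show (show Γ(X, ⊤) from H11Ample.one ⊤) = 1 from rfl, one_smul]
      exact H10Coh.mres_self L _ _)]
    rw [← TopCat.Presheaf.germ_res_apply L.presheaf (homOfLE (le_top : V ≤ ⊤)) w hwV, hcc,
      H06Mod.germ_smul]
  rw [← hro, map_smul, map_smul, ho]
  erw [ε.map_smul]
  refine Ideal.mul_mem_left _ _ (Ideal.mul_mem_right _ _ hcm)

end Groth.Agent.H28Int.Stalk
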