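import Groth.Agent.LeadDev.Basic
import Groth.Agent.LeadDev.Filt
import Groth.Agent.H10Coh.AffinePush
import Groth.Agent.H10Coh.SerreVanishing
import Groth.Agent.H10Coh.AmpleDevissage
import Groth.Agent.H25Euler.Degree

/-!
# Vanishing of the cohomology of quasi-coherent modules above the dimension of the support
-/

set_option autoImplicit false
set_option linter.style.haveILetI false
universe u

open CategoryTheory CategoryTheory.Limits AlgebraicGeometry Opposite TopologicalSpace
open Groth.Agent.H10Coh

namespace Groth.Agent.H28Int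

attribute [local instance 10000] hasSheafifyAb hasWeakSheafifyAb hasExtAb enoughInjAb

variable {X : Scheme.{u}}

theorem subsingleton_X₁ {T : TopCat.{u}} {S : ShortComplex (CohTop.Ab T)} (hS : S.ShortExact) {n : ℕ}
    {U : Opens T} (h₂ : Subsingleton (Hn S.X₂ (n + 1) U)) (h₃ : Subsingleton (Hn S.X₃ n U)) :
    Subsingleton (Hn S.X₁ (n + 1) U) :=
  ⟨fun a b => by
    have key : ∀ x : Hn S.X₁ (n + 1) U, x = 0 := fun x => by
      obtain ⟨y, hy⟩ := Abelian.Ext.covariant_sequence_exact₁ _ hS x (Subsingleton.elim _ _) rfl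
      rw [← hy, Subsingleton.elim y 0, Abelian.Ext.zero_comp]
    rw [key a, key b]⟩

/-- A module pushed forward from an open vanishes where the original module does. -/
theorem support_push_restrict (U : X.Opens) (M : X.Modules) {Z : Set X} (hZ : IsClosed Z)
    (h : CohB1.support M ∩ U ⊆ Z) :
    CohB1.support ((Scheme.Modules.pushforward U.ι).obj (M.restrict U.ι)) ⊆ Z := by
  intro x hx
  by_contra hxZ
  refine hx (subsingleton_of_forall_eq 0 fun a => ?_)
  obtain ⟨W, hxW, t, rfl⟩ := TopCat.Presheaf.exists_germ_eq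
    ((Scheme.Modules.pushforward U.ι).obj (M.restrict U.ι)).presheaf a
  let V : X.Opens := W ⊓ ⟨Zᶜ, hZ.isOpen_compl⟩
  rw [← TopCat.Presheaf.germ_res_apply _ (homOfLE (inf_le_left : V ≤ W)) x ⟨hxW, hxZ⟩]
  have h2 : ∀ s : Γ(M, U.ι ''ᵁ (U.ι ⁻¹ᵁ V)), s = 0 := fun s => by
    refine TopCat.Presheaf.section_ext (⟨M.presheaf, M.isSheaf⟩ : TopCat.Sheaf Ab.{u} X) _ _ _ fun y hy => ?_
    show M.presheaf.germ _ y hy s = M.presheaf.germ _ y hy 0
    rw [map_zero]
    have hyV : y ∈ V := U.ι.image_preimage_le V hy
    haveI : Subsingleton (M.presheaf.stalk y) := by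
      by_contra hns
      exact hyV.2 (h ⟨hns, U.ι_image_le _ hy⟩)
    exact Subsingleton.elim _ _
  rw [show ((Scheme.Modules.pushforward U.ι).obj (M.restrict U.ι)).presheaf.map (homOfLE inf_le_left).op t = 0
    from h2 _, map_zero]

/-- The kernel of restriction to an open is supported off the open, and so is the cokernel. -/
theorem support_kernel_cokernel_unit (U : X.Opens) (M : X.Modules) :
    (∀ x ∈ U, x ∉ CohB1.support (kernel ((Scheme.Modules.restrictAdjunction U.ι).unit.app M))) ∧
      ∀ x ∈ U, x ∉ CohB1.support (cokernel ((Scheme.Modules.restrictAdjunction U.ι).unit.app M)) := by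
  let adj := Scheme.Modules.restrictAdjunction U.ι
  let R := Scheme.Modules.restrictFunctor U.ι
  let η : M ⟶ (Scheme.Modules.pushforward U.ι).obj (R.obj M) := adj.unit.app M
  haveI : IsIso (R.map η) := by
    haveI : IsIso (R.map η ≫ adj.counit.app (R.obj M)) := by
      erw [adj.left_triangle_components]; infer_instance
    exact IsIso.of_isIso_comp_right _ (adj.counit.app (R.obj M))
  refine ⟨fun x hx => LeadDev.notMem_support_of_isZero_restrict U.ι ((IsZero.iff_id_eq_zero _).2 ?_)
    (show x ∈ Set.range U.ι by rw [Scheme.Opens.range_ι]; exact hx),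
    fun x hx => LeadDev.notMem_support_of_isZero_restrict U.ι ((IsZero.iff_id_eq_zero _).2 ?_)
    (show x ∈ Set.range U.ι by rw [Scheme.Opens.range_ι]; exact hx)⟩
  · have h0 : R.map (kernel.ι η) = 0 := by
      rw [← cancel_mono (R.map η), ← R.map_comp, kernel.condition, R.map_zero, zero_comp]
    haveI : Mono (R.map (kernel.ι η)) := inferInstance
    rw [← cancel_mono (R.map (kernel.ι η))]
    exact (Category.id_comp _).trans (h0.trans zero_comp.symm)
  · have h0 : R.map (cokernel.π η) = 0 := by
      rw [← cancel_epi (R.map η), ← R.map_comp, cokernel.condition, R.map_zero, comp_zero]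
    haveI : Epi (R.map (cokernel.π η)) := inferInstance
    rw [← cancel_epi (R.map (cokernel.π η))]
    exact (Category.comp_id _).trans (h0.trans comp_zero.symm)

attribute [local instance] specializationOrder

/-- Quasi-coherent modules on a separated Noetherian scheme supported in a closed subset of dimension
`≤ d` have no cohomology above degree `d`. -/
theorem subsingleton_HnM_of_support [IsNoetherian X] [X.IsSeparated] (Z : Closeds X) :
    ∀ (d : ℕ), topologicalKrullDim (Z : Set X) ≤ d → ∀ (M : X.Modules), M.IsQuasicoherent →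
      CohB1.support M ⊆ Z → ∀ p : ℕ, d < p → Subsingleton (HnM M p ⊤) := by
  induction Z using WellFoundedLT.induction with
  | _ Z ih =>
  intro d hd M hM hMZ p hp
  have hzero : ∀ N : X.Modules, CohB1.support N ⊆ (∅ : Set X) → IsZero N := fun N hN =>
    H16Derived.KFlat.Stalk.isZero_of_stalk fun x =>
      (H25Euler.notMem_support_iff N x).1 fun hx => hN hx
  rcases Set.eq_empty_or_nonempty (Z : Set X) with hZe | hZn
  · have hz := hzero M (hZe ▸ hMZ)
    exact ⟨fun a b => by
      have key : ∀ x : HnM M p ⊤, x = 0 := fun x => by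
        rw [← postH_id p ⊤ x, ← CategoryTheory.Functor.map_id, hz.eq_of_src (𝟙 M) 0, Functor.map_zero,
          postH_zero]
      rw [key a, key b]⟩
  by_cases hirr : IsPreirreducible (Z : Set X)
  · obtain ⟨η, hη⟩ : ∃ η : X, closure {η} = (Z : Set X) :=
      ⟨_, IsIrreducible.closure_genericPoint ⟨hZn, hirr⟩ Z.isClosed⟩
    obtain ⟨U, hU, hηU, -⟩ := exists_isAffineOpen_mem_and_subset (U := (⊤ : X.Opens)) (x := η) trivial
    haveI : IsAffine U.toScheme := hU
    haveI : IsAffineHom U.ι := MorphismProperty.of_postcomp (W := @IsAffineHom) (W' := @IsSeparated) U.ι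
      (terminal.from X) inferInstance inferInstance
    let adj := Scheme.Modules.restrictAdjunction U.ι
    let η₀ : M ⟶ (Scheme.Modules.pushforward U.ι).obj (M.restrict U.ι) := adj.unit.app M
    haveI : (M.restrict U.ι).IsQuasicoherent := Scheme.Modules.isQuasicoherent_restrictFunctor U.ι M
    haveI hP : ((Scheme.Modules.pushforward U.ι).obj (M.restrict U.ι)).IsQuasicoherent :=
      isQuasicoherent_pushforward_of_isAffineHom U.ι _
    have hK : (kernel η₀).IsQuasicoherent := isQuasicoherent_kernel η₀
    have hC : (cokernel η₀).IsQuasicoherent := isQuasicoherent_cokernel η₀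
    let Z' : Closeds X := ⟨(Z : Set X) \ U, Z.isClosed.sdiff U.2⟩
    have hlt : Z' < Z := lt_of_le_of_ne (fun x hx => hx.1) fun e => by
      have h1 : η ∈ (Z' : Set X) := by rw [e]; exact hη ▸ subset_closure rfl
      exact h1.2 hηU
    have hdim : ∀ e : ℕ, topologicalKrullDim (Z : Set X) < ((e + 1 : ℕ) : WithBot ℕ∞) →
        topologicalKrullDim (Z' : Set X) < (e : WithBot ℕ∞) := fun e he => by
      haveI : QuasiSober (Z : Set X) := Z.isClosed.isClosedEmbedding_subtypeVal.quasiSober
      have h := H25Euler.dim_lt_of_forall_ne (Y := (Z : Set X)) (Subtype.val ⁻¹' (Z' : Set X))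
        (Z'.isClosed.preimage continuous_subtype_val) (fun y _ => ⟨⟨η, hη ▸ subset_closure rfl⟩,
          (subtype_specializes_iff _ _).2 (specializes_iff_mem_closure.2 (by rw [hη]; exact y.2)), fun h => h.2 hηU⟩) he
      let e' : (Z' : Set X) ≃ₜ (Subtype.val ⁻¹' (Z' : Set X) : Set (Z : Set X)) :=
        { toFun := fun x => ⟨⟨x.1, x.2.1⟩, x.2⟩
          invFun := fun x => ⟨x.1.1, x.2⟩
          left_inv := fun _ => rfl
          right_inv := fun _ => rfl }
      rwa [e'.isHomeomorph.topologicalKrullDim_eq]
    have hKs : CohB1.support (kernel η₀) ⊆ (Z' : Set X) := fun x hx =>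
      ⟨hMZ (LeadDev.support_subset_of_mono (kernel.ι η₀) hx),
        fun hxU => (support_kernel_cokernel_unit U M).1 x hxU hx⟩
    have hCs : CohB1.support (cokernel η₀) ⊆ (Z' : Set X) := fun x hx =>
      ⟨support_push_restrict U M Z.isClosed (fun y hy => hMZ hy.1) (LeadDev.support_subset_of_epi (cokernel.π η₀) hx),
        fun hxU => (support_kernel_cokernel_unit U M).2 x hxU hx⟩
    obtain ⟨m, rfl⟩ := Nat.exists_eq_succ_of_ne_zero (show p ≠ 0 by omega)
    have hPv : Subsingleton (HnM ((Scheme.Modules.pushforward U.ι).obj (M.restrict U.ι)) (m + 1) ⊤) :=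
      @Equiv.subsingleton _ _ (affineLerayEquiv U.ι (M.restrict U.ι) (m + 1) ⊤).toEquiv
        (subsingleton_HnM_of_isAffineOpen _ (isAffineOpen_top U.toScheme) m)
    have hbound : Subsingleton (HnM (kernel η₀) (m + 1) ⊤) ∧ Subsingleton (HnM (cokernel η₀) m ⊤) := by
      rcases d with _ | e
      · have he := hdim 0 (lt_of_le_of_lt hd (WithBot.coe_lt_coe.2 (ENat.natCast_lt_natCast.2 Nat.zero_lt_one)))
        have hemp : (Z' : Set X) = ∅ := by
          by_contra hne
          obtain ⟨x, hx⟩ := Set.nonempty_iff_ne_empty.2 hne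
          haveI : Nonempty (IrreducibleCloseds (Z' : Set X)) :=
            ⟨⟨closure {⟨x, hx⟩}, isIrreducible_singleton.closure, isClosed_closure⟩⟩
          exact absurd he (not_lt.2 Order.krullDim_nonneg)
        have z1 := hzero _ (hemp ▸ hKs)
        have z2 := hzero _ (hemp ▸ hCs)
        constructor <;> refine ⟨fun a b => ?_⟩
        · have key : ∀ x : HnM (kernel η₀) (m + 1) ⊤, x = 0 := fun x => by
            rw [← postH_id (m + 1) ⊤ x, ← CategoryTheory.Functor.map_id, z1.eq_of_src (𝟙 _) 0, Functor.map_zero,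
              postH_zero]
          rw [key a, key b]
        · have key : ∀ x : HnM (cokernel η₀) m ⊤, x = 0 := fun x => by
            rw [← postH_id m ⊤ x, ← CategoryTheory.Functor.map_id, z2.eq_of_src (𝟙 _) 0, Functor.map_zero,
              postH_zero]
          rw [key a, key b]
      · have he := hdim (e + 1) (lt_of_le_of_lt hd (WithBot.coe_lt_coe.2 (ENat.natCast_lt_natCast.2 (Nat.lt_succ_self (e + 1)))))
        have he' : topologicalKrullDim (Z' : Set X) ≤ (e : ℕ) := by
          rcases h : topologicalKrullDim (Z' : Set X) with _ | n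
          · exact bot_le
          · rw [h] at he
            have : n < ((e + 1 : ℕ) : ℕ∞) := WithBot.coe_lt_coe.1 he
            exact WithBot.coe_le_coe.2 (ENat.lt_coe_add_one_iff.1 (by exact_mod_cast this))
        exact ⟨ih Z' hlt e he' _ hK hKs _ (by omega), ih Z' hlt e he' _ hC hCs _ (by omega)⟩
    let I := Abelian.image η₀
    have hS₁ : (ShortComplex.mk (kernel.ι η₀) (Abelian.factorThruImage η₀)
        (by rw [← cancel_mono (Abelian.image.ι η₀), Category.assoc, Abelian.image.fac, kernel.condition,
          zero_comp])).ShortExact :=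
      { exact := ShortComplex.exact_of_f_is_kernel _ (KernelFork.IsLimit.ofι' _ _ fun g hg =>
          ⟨kernel.lift η₀ g (by
            rw [← Abelian.image.fac η₀, ← Category.assoc, hg, zero_comp]), kernel.lift_ι _ _ _⟩)
        epi_g := inferInstanceAs (Epi (Abelian.factorThruImage η₀)) }
    have hS₂ : (ShortComplex.mk (kernel.ι (cokernel.π η₀)) (cokernel.π η₀) (kernel.condition _)).ShortExact :=
      { exact := ShortComplex.exact_kernel _ }
    have hI : Subsingleton (HnM I (m + 1) ⊤) := subsingleton_X₁ (shortExact_sh hS₂) hPv hbound.2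
    exact Tw.subsingleton_X₂ (shortExact_sh hS₁) hbound.1 hI
  · rw [isPreirreducible_iff_isClosed_union_isClosed] at hirr
    push_neg at hirr
    obtain ⟨A, B, hA, hB, hsub, hnA, hnB⟩ := hirr
    let Z₁ : Closeds X := ⟨(Z : Set X) ∩ A, Z.isClosed.inter hA⟩
    let Z₂ : Closeds X := ⟨(Z : Set X) ∩ B, Z.isClosed.inter hB⟩
    have h1 : Z₁ < Z := lt_of_le_of_ne (fun x hx => hx.1) fun e => hnA fun x hx =>
      ((congrArg (fun C : Closeds X => (C : Set X)) e).ge hx).2
    have h2 : Z₂ < Z := lt_of_le_of_ne (fun x hx => hx.1) fun e => hnB fun x hx =>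
      ((congrArg (fun C : Closeds X => (C : Set X)) e).ge hx).2
    have hd1 : topologicalKrullDim (Z₁ : Set X) ≤ d :=
      (Topology.IsInducing.topologicalKrullDim_le (Topology.IsEmbedding.inclusion h1.le).isInducing).trans hd
    have hd2 : topologicalKrullDim (Z₂ : Set X) ≤ d :=
      (Topology.IsInducing.topologicalKrullDim_le (Topology.IsEmbedding.inclusion h2.le).isInducing).trans hd
    let U : X.Opens := ⟨(Z₁ : Set X)ᶜ, Z₁.isClosed.isOpen_compl⟩
    let η₀ : M ⟶ (Scheme.Modules.pushforward U.ι).obj (M.restrict U.ι) :=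
      (Scheme.Modules.restrictAdjunction U.ι).unit.app M
    haveI : (M.restrict U.ι).IsQuasicoherent := Scheme.Modules.isQuasicoherent_restrictFunctor U.ι M
    haveI hP : ((Scheme.Modules.pushforward U.ι).obj (M.restrict U.ι)).IsQuasicoherent :=
      LeadDev.isQCoh_push_open U.ι _ ‹_›
    have hK : (kernel η₀).IsQuasicoherent := isQuasicoherent_kernel η₀
    let π := cokernel.π (kernel.ι η₀)
    have hI : (cokernel (kernel.ι η₀)).IsQuasicoherent := isQuasicoherent_cokernel _
    have hS : (ShortComplex.mk (kernel.ι η₀) π (cokernel.condition _)).ShortExact :=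
      ShortComplex.ShortExact.mk' (ShortComplex.exact_cokernel _) inferInstance inferInstance
    refine Tw.subsingleton_X₂ (shortExact_sh hS) (ih Z₁ h1 d hd1 _ hK (fun x hx => ?_) p hp)
      (ih Z₂ h2 d hd2 _ hI (fun x hx => ?_) p hp)
    · by_contra hxZ
      exact (support_kernel_cokernel_unit U M).1 x hxZ hx
    · refine ⟨hMZ (LeadDev.support_subset_of_epi π hx), ?_⟩
      haveI : Mono (Abelian.factorThruCoimage η₀) := inferInstance
      have hxP := LeadDev.support_subset_of_mono (Abelian.factorThruCoimage η₀) hx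
      exact (support_push_restrict U M (Z := (Z₂ : Set X)) Z₂.isClosed (fun y hy => ⟨hMZ hy.1,
        (hsub (hMZ hy.1)).resolve_left fun hyA => hy.2 ⟨hMZ hy.1, hyA⟩⟩) hxP).2

end Groth.Agent.H28Int
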