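import Groth.Agent.H28Int.Positive

/-!
# Sections of invertible modules on integral proper schemes
-/

set_option autoImplicit false
set_option linter.style.haveILetI false
universe u

open CategoryTheory CategoryTheory.Limits AlgebraicGeometry Opposite TopologicalSpace
open Groth.Agent.H8Props.FieldDim (cdim)

namespace Groth.Agent.H28Int.Surface

variable {X : Scheme.{u}}

/-- A nonzero section of an invertible module generates at the generic point. -/
theorem generic_mem_gen [IsIntegral X] {L : X.Modules} (hL : PicF.IsInvertible L) {g : Γ(L, ⊤)}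
    (hg : g ≠ 0) : genericPoint X ∈ H11Ample.gen L g := by
  by_contra hn
  apply hg
  choose V e hxV he using fun x => H11Ample.exists_gen hL x
  have hcov : (⊤ : X.Opens) ≤ iSup V := fun x _ => Opens.mem_iSup.2 ⟨x, hxV x⟩
  refine TopCat.Sheaf.eq_of_locally_eq' ⟨L.presheaf, L.isSheaf⟩ V ⊤ (fun x => homOfLE le_top) hcov g 0
    fun x => ?_
  obtain ⟨c, hc⟩ := H11Ample.exists_coeff (he x) (L.presheaf.map (homOfLE (le_top : V x ≤ ⊤)).op g)
  have h0 : c = 0 := by
    haveI : Nonempty ↥(V x) := ⟨⟨x, hxV x⟩⟩
    rw [← basicOpen_eq_bot_iff, ← H11Ample.gen_inf_eq_basicOpen (he x) g c hc]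
    refine eq_bot_iff.2 fun y hy => (hn ?_).elim
    exact (genericPoint_specializes y).mem_open (H11Ample.gen L g).2 hy.1
  simp only [map_zero]
  exact hc.trans (by rw [h0, zero_smul])

/-- Nonvanishing of `H^0` provides a nonzero global section. -/
theorem exists_section {M : X.Modules} (h : Nontrivial (Coh.HH X M 0)) : ∃ g : Γ(M, ⊤), g ≠ 0 := by
  haveI := h
  haveI : Nontrivial Γ(M, ⊤) :=
    ((H10Coh.HHEquiv M 0).toEquiv.trans (H10Coh.H0Equiv (H10Coh.sh M) ⊤).toEquiv).symm.nontrivial
  exact exists_ne 0

theorem cdim_genericPoint [IsIntegral X] : cdim (genericPoint X) = topologicalKrullDim X := by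
  rw [H8Props.FieldDim.cdim, genericPoint_spec X]
  exact (Homeomorph.Set.univ X).isHomeomorph.topologicalKrullDim_eq

/-- The structure sheaf as a direct image along the identity. -/
noncomputable def pushIdIso : (Coh.push (𝟙 X)).obj (Coh.structureModule X) ≅ Coh.structureModule X :=
  (Scheme.Modules.pushforwardId X).app _

section field

variable (k : Type u) [Field k] [X.Over (Spec (CommRingCat.of k))] [IsProper (X ↘ Spec (CommRingCat.of k))]
variable [IsIntegral X]

include k in
omit [IsIntegral X] in
theorem isCoh_structure : Coh.IsCoh (Coh.structureModule X) :=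
  haveI := isNoetherian k (X := X)
  H10Coh.isCoh_of_iso pushIdIso (LeadDev.isCoh_push_structure (𝟙 X))

include k in
theorem support_structure : CohB1.support (Coh.structureModule X) = Set.univ := by
  haveI := isNoetherian k (X := X)
  refine Set.eq_univ_of_forall fun x => LeadDev.support_subset_of_iso pushIdIso ?_
  rw [support_push_structure_eq (𝟙 X)]
  exact ⟨x, rfl⟩

/-- The intersection of a module having a section with others is the intersection of these with the
zero scheme of the section. -/
theorem exists_zero_locus {l : List X.Modules} (hl : ∀ A ∈ l, PicF.IsInvertible A)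
    (hd : topologicalKrullDim X ≤ ((l.length + 1 : ℕ) : WithBot ℕ∞)) {M M' : X.Modules}
    (hM : PicF.IsInvertible M) (hM' : PicF.IsInvertible M')
    (e : CohB1.tensorMod M M' ≅ Coh.structureModule X) {g : Γ(M, ⊤)} (hg : g ≠ 0) :
    ∃ C : X.Modules, Coh.IsCoh C ∧ topologicalKrullDim (CohB1.support C) ≤ (l.length : WithBot ℕ∞) ∧
      CohB1.support C ⊆ (H11Ample.gen M g : Set X)ᶜ ∧
      (∀ w, w ∉ H11Ample.gen M g → w ∈ CohB1.support C) ∧
      D k (M' :: l) (Coh.structureModule X) = D k l C := by
  haveI := isNoetherian k (X := X)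
  let A := Coh.structureModule X
  let μ := H25Euler.mulHom A (H11Tilde.homOfGlobal M g)
  have hA : Coh.IsCoh A := isCoh_structure k
  have hB : Coh.IsCoh (CohB1.tensorMod A M) := H11Ample.isCoh_tensor hA hM
  have hiso : ∀ x ∈ H11Ample.gen M g, x ∉ CohB1.support (kernel μ) ∧ x ∉ CohB1.support (cokernel μ) :=
    fun x hx => H25Euler.notMem_support_kernel_cokernel μ (x := x) (H25Euler.isIso_stalk_mulHom A _ hx)
  have hξ := generic_mem_gen hM hg
  have hker : IsZero (kernel μ) := isZero_of_mono_push (𝟙 X) (kernel.ι μ ≫ pushIdIso.inv)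
    (hiso (genericPoint X) hξ).1
  haveI : Mono μ := Preadditive.mono_of_isZero_kernel μ hker
  have hC := H10Coh.isCoh_cokernel μ hA.1 hB
  have hS : (ShortComplex.mk μ (cokernel.π μ) (cokernel.condition μ)).ShortExact :=
    ShortComplex.ShortExact.mk' (ShortComplex.exact_cokernel μ) inferInstance inferInstance
  have hlt : topologicalKrullDim (CohB1.support (cokernel μ)) < ((l.length + 1 : ℕ) : WithBot ℕ∞) :=
    dim_lt_of_notMem (C := Set.univ) (genericPoint_spec X)
      ((Topology.IsInducing.subtypeVal.topologicalKrullDim_le).trans hd)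
      (H10Coh.isClosed_support _ hC.2) (fun _ _ => trivial) (hiso _ hξ).2
  have hCd : topologicalKrullDim (CohB1.support (cokernel μ)) ≤ (l.length : WithBot ℕ∞) := by
    rcases hdim : topologicalKrullDim (CohB1.support (cokernel μ)) with _ | n
    · exact bot_le
    · rw [hdim] at hlt
      have : n < ((l.length + 1 : ℕ) : ℕ∞) := WithBot.coe_lt_coe.1 hlt
      exact WithBot.coe_le_coe.2 (ENat.lt_natCast_add_one_iff.1 (by exact_mod_cast this))
  refine ⟨cokernel μ, hC, hCd, fun x hx hxG => (hiso x hxG).2 hx, fun w hw =>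
    Stalk.mem_support_cokernel_mulHom hM g hA (by rw [support_structure k]; trivial) hw, ?_⟩
  have hadd := (isAddFn_D k l hl).add _ hS hA hB hC
  change D k l (CohB1.tensorMod A M) = D k l A + D k l (cokernel μ) at hadd
  have hd1 : topologicalKrullDim (CohB1.support A) ≤ ((l.length + 1 : ℕ) : WithBot ℕ∞) :=
    (Topology.IsInducing.subtypeVal.topologicalKrullDim_le).trans hd
  have htw : D k (M' :: l) (CohB1.tensorMod M A) = D k (M' :: l) A :=
    D_twist k (l := M' :: l) (List.forall_mem_cons.2 ⟨hM', hl⟩) hM hA (by simpa using hd1)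
  rw [← htw]
  show D k l (CohB1.tensorMod M A) - D k l (CohB1.tensorMod M' (CohB1.tensorMod M A)) = _
  rw [(isAddFn_D k l hl).congr (H10Coh.Tw.commIso M A),
    (isAddFn_D k l hl).congr ((H10Coh.Tw.assoc M' M A).symm ≪≫
      PicGrp.tensorModIso (H10Coh.Tw.commIso M' M ≪≫ e) (Iso.refl A) ≪≫ H10Coh.Tw.leftUnitIso A)]
  omega

end field

end Groth.Agent.H28Int.Surface
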