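import Groth.Agent.H28Int.Num
import Groth.Agent.H28Int.Surface
import Groth.Agent.H28Pinch.DirectImageTrivial
import Groth.Agent.H22Alg.VarDim
import Groth.Agent.H17.Reduced
import Groth.Agent.H10Coh.AffinePush
import Mathlib.AlgebraicGeometry.ZariskisMainTheorem

/-!
# Morphisms from complete curves and degrees of invertible modules
-/

set_option autoImplicit false
set_option linter.style.haveILetI false
universe u

open CategoryTheory CategoryTheory.Limits AlgebraicGeometry Opposite TopologicalSpace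
open Groth.Agent.H8Props.FieldDim (cdim)

namespace Groth.Agent.H28Int.Curves

variable (k : Type u) [Field k]

theorem cdim_closed {X : Scheme.{u}} {x : X} (hx : IsClosed ({x} : Set X)) :
    cdim x = ((0 : ℕ) : WithBot ℕ∞) := by
  rw [H8Props.FieldDim.cdim, hx.closure_eq]
  haveI : Nonempty (IrreducibleCloseds ({x} : Set X)) :=
    ⟨⟨Set.univ, ⟨Set.univ_nonempty, (Set.subsingleton_of_subsingleton).isPreirreducible⟩, isClosed_univ⟩⟩
  haveI : Subsingleton (IrreducibleCloseds ({x} : Set X)) := ⟨fun A B => IrreducibleCloseds.ext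
    ((Subsingleton.eq_univ_of_nonempty A.isIrreducible.nonempty).trans
      (Subsingleton.eq_univ_of_nonempty B.isIrreducible.nonempty).symm)⟩
  exact le_antisymm (Order.krullDim_nonpos_iff_forall_isMax.2 fun A B h => (Subsingleton.elim B A).le)
    Order.krullDim_nonneg

/-- A morphism from a complete integral curve to a scheme over the field is finite or constant. -/
theorem finite_or_const {X Y : Scheme.{u}} [X.Over (Spec (CommRingCat.of k))] [Y.Over (Spec (CommRingCat.of k))]
    [IsProper (X ↘ Spec (CommRingCat.of k))] [IsProper (Y ↘ Spec (CommRingCat.of k))] [IsIntegral Y]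
    (hY : topologicalKrullDim Y = 1) (h : Y ⟶ X)
    (hh : h ≫ (X ↘ Spec (CommRingCat.of k)) = Y ↘ Spec (CommRingCat.of k)) :
    IsFinite h ∨ ∃ x : X, cdim x ≤ ((0 : ℕ) : WithBot ℕ∞) ∧ ∀ y, h y = x := by
  haveI := isNoetherian k (X := Y)
  haveI : IsProper (h ≫ (X ↘ Spec (CommRingCat.of k))) := hh.symm ▸ inferInstance
  haveI : IsProper h := IsProper.of_comp h (X ↘ Spec (CommRingCat.of k))
  by_cases hfin : ∀ x, (h ⁻¹' {x}).Finite
  · left
    haveI : LocallyQuasiFinite h := locallyQuasiFinite_iff_finite_preimage_singleton.2 hfin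
    exact (IsFinite.iff_isProper_and_locallyQuasiFinite h).2 ⟨inferInstance, inferInstance⟩
  right
  obtain ⟨x, hx⟩ := not_forall.1 hfin
  let ξ := genericPoint Y
  let S := h ⁻¹' closure {x}
  have hS : IsClosed S := isClosed_closure.preimage h.continuous
  have hξS : ξ ∈ S := by
    by_contra hn
    have hlt : topologicalKrullDim S < ((1 : ℕ) : WithBot ℕ∞) := dim_lt_of_notMem (C := Set.univ)
      (genericPoint_spec Y) ((Topology.IsInducing.subtypeVal.topologicalKrullDim_le).trans hY.le) hS
      (fun _ _ => trivial) hn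
    refine hx ((Set.Finite.subset ?_ (Set.preimage_mono subset_closure) : (h ⁻¹' {x}).Finite))
    haveI : QuasiSober S := hS.isClosedEmbedding_subtypeVal.quasiSober
    haveI : NoetherianSpace S := inferInstance
    have hdiscr : ∀ y : S, IsClosed ({y} : Set S) := fun y => by
      by_contra hne
      obtain ⟨z, hz, hzy⟩ := Set.not_subset.1 (fun hsub => hne (closure_subset_iff_isClosed.1 hsub))
      let A : IrreducibleCloseds S := ⟨closure {z}, isIrreducible_singleton.closure, isClosed_closure⟩
      let B : IrreducibleCloseds S := ⟨closure {y}, isIrreducible_singleton.closure, isClosed_closure⟩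
      have hAB : A ≤ B := closure_minimal (Set.singleton_subset_iff.2 hz) isClosed_closure
      have hne' : A ≠ B := fun e => hzy (Set.mem_singleton_iff.2 ((specializes_iff_mem_closure.2
        (show y ∈ closure {z} from (congrArg IrreducibleCloseds.carrier e).ge (subset_closure rfl))).antisymm
          (specializes_iff_mem_closure.2 hz)).eq)
      have h1 : (1 : WithBot ℕ∞) ≤ Order.krullDim (IrreducibleCloseds S) :=
        Order.one_le_krullDim_iff.2 ⟨A, B, lt_of_le_of_ne hAB hne'⟩
      exact absurd hlt (not_lt.2 (by simpa [topologicalKrullDim] using h1))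
    haveI : T1Space S := ⟨hdiscr⟩
    haveI : Finite S := by
      refine Set.finite_univ_iff.1 ((((NoetherianSpace.finite_irreducibleComponents (α := S))).biUnion
        fun C hC => ?_).subset (s := ⋃ C ∈ irreducibleComponents S, C) fun y _ =>
          Set.mem_biUnion (irreducibleComponent_mem_irreducibleComponents y) mem_irreducibleComponent)
      have hCirr : IsIrreducible C := hC.1
      rw [← hCirr.closure_genericPoint (isClosed_of_mem_irreducibleComponents C hC),
        closure_singleton]
      exact Set.finite_singleton _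
    exact Set.toFinite S
  have hξx : h ξ = x := by
    obtain ⟨y, hy⟩ := (Set.Infinite.nonempty hx)
    exact ((((genericPoint_specializes y).map h.continuous).trans (specializes_of_eq hy)).antisymm
      (specializes_iff_mem_closure.2 hξS)).eq
  obtain ⟨y, hy, hne'⟩ := Set.Infinite.exists_notMem_finset hx {ξ}
  have hne : y ≠ ξ := fun e => hne' (Finset.mem_singleton.2 e)
  have hy0 : cdim y ≤ ((0 : ℕ) : WithBot ℕ∞) := by
    have hlt : topologicalKrullDim (closure ({y} : Set Y)) < ((1 : ℕ) : WithBot ℕ∞) :=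
      dim_lt_of_notMem (C := Set.univ) (genericPoint_spec Y)
        ((Topology.IsInducing.subtypeVal.topologicalKrullDim_le).trans hY.le) isClosed_closure
        (fun _ _ => trivial) fun hc =>
          hne ((genericPoint_specializes y).antisymm (specializes_iff_mem_closure.2 hc)).eq.symm
    obtain ⟨s, hs, -⟩ := H22Alg.VarDim.exists_cdim_trdeg k Y y
    rw [hs]
    change cdim y < _ at hlt
    rw [hs] at hlt
    have : s < 1 := by exact_mod_cast hlt
    exact Nat.cast_le.2 (by omega)
  have hadd := H8Props.FieldDim.cdim_eq_add (Y ↘ Spec (CommRingCat.of k)) (X ↘ Spec (CommRingCat.of k)) h hh y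
  obtain ⟨s, hs, -⟩ := H22Alg.VarDim.exists_cdim_trdeg k X x
  have hx0 : cdim x ≤ ((0 : ℕ) : WithBot ℕ∞) := by
    refine le_trans ?_ hy0
    rw [hadd, ← show h y = x from hy]
    refine le_add_of_nonneg_left ?_
    haveI : Nonempty (IrreducibleCloseds (closure ({h.asFiber y} : Set (h.fiber (h y))))) :=
      ⟨⟨Set.univ, ⟨⟨⟨_, subset_closure rfl⟩, trivial⟩,
        (Subtype.preirreducibleSpace isIrreducible_singleton.closure.isPreirreducible).1⟩, isClosed_univ⟩⟩
    exact Order.krullDim_nonneg
  refine ⟨x, hx0, fun z => ?_⟩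
  have hsp : x ⤳ h z := hξx ▸ (genericPoint_specializes z).map h.continuous
  by_contra hne'
  have hlt : topologicalKrullDim (closure ({h z} : Set X)) < ((0 : ℕ) : WithBot ℕ∞) :=
    dim_lt_of_notMem (C := closure {x}) rfl hx0 isClosed_closure
      (fun w hw => closure_minimal (Set.singleton_subset_iff.2 hsp.mem_closure) isClosed_closure hw)
      (fun hc => hne' ((specializes_iff_mem_closure.2 hc).antisymm hsp).eq)
  obtain ⟨t, ht, -⟩ := H22Alg.VarDim.exists_cdim_trdeg k X (h z)
  change cdim (h z) < _ at hlt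
  rw [ht] at hlt
  exact absurd (show t < 0 by exact_mod_cast hlt) (Nat.not_lt_zero t)

/-- A direct image is supported in any closed set containing the image. -/
theorem support_push_subset {X Y : Scheme.{u}} (h : Y ⟶ X) (M : Y.Modules) {C : Set X} (hC : IsClosed C)
    (hsub : Set.range h ⊆ C) : CohB1.support ((Coh.push h).obj M) ⊆ C := fun x hs => by
  by_contra hx
  refine hs (subsingleton_of_forall_eq 0 fun a => ?_)
  obtain ⟨U, hxU, t, rfl⟩ := TopCat.Presheaf.exists_germ_eq _ a
  let V : X.Opens := U ⊓ ⟨Cᶜ, hC.isOpen_compl⟩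
  have hV : h ⁻¹ᵁ V = ⊥ := Opens.ext (Set.eq_empty_iff_forall_notMem.2 fun z hz => hz.2 (hsub ⟨z, rfl⟩))
  haveI : Subsingleton Γ(Y, h ⁻¹ᵁ V) := by rw [hV]; infer_instance
  haveI : Subsingleton Γ(M, h ⁻¹ᵁ V) := Module.subsingleton Γ(Y, h ⁻¹ᵁ V) _
  let t' : Γ(M, h ⁻¹ᵁ V) := ((Coh.push h).obj M).presheaf.map (homOfLE (inf_le_left : V ≤ U)).op t
  have h0 : t' = 0 := Subsingleton.elim _ _
  rw [← TopCat.Presheaf.germ_res_apply _ (homOfLE (inf_le_left : V ≤ U)) x ⟨hxU, hx⟩]
  erw [show ((Coh.push h).obj M).presheaf.map (homOfLE (inf_le_left : V ≤ U)).op t = 0 from h0, map_zero]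

/-- The direct image of the structure sheaf has nonzero stalks at the image. -/
theorem mem_support_push_structure {X Y : Scheme.{u}} (h : Y ⟶ X) (y : Y) :
    h y ∈ CohB1.support ((Coh.push h).obj (Coh.structureModule Y)) := fun hsub => by
  haveI := hsub
  let P := (Coh.push h).obj (Coh.structureModule Y)
  obtain ⟨V, hV, iU, iU', hres⟩ := TopCat.Presheaf.germ_eq P.presheaf (h y) (U := (⊤ : X.Opens)) (V := (⊤ : X.Opens)) trivial trivial
    (show Γ(P, ⊤) from (1 : Γ(Y, h ⁻¹ᵁ ⊤))) 0 (Subsingleton.elim _ _)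
  rw [map_zero] at hres
  have h1 : (1 : Γ(Y, h ⁻¹ᵁ V)) = 0 :=
    ((Y.presheaf.map ((Opens.map h.base).map iU).op).hom.map_one).symm.trans hres
  haveI : Nonempty ↥(h ⁻¹ᵁ V) := ⟨⟨y, hV⟩⟩
  exact one_ne_zero h1

variable {X Y : Scheme.{u}} [X.Over (Spec (CommRingCat.of k))] [Y.Over (Spec (CommRingCat.of k))]
  [IsProper (X ↘ Spec (CommRingCat.of k))] [IsProper (Y ↘ Spec (CommRingCat.of k))]

/-- Degrees along an affine morphism. -/
theorem D_push_affine (h : Y ⟶ X) [IsAffineHom h]
    (hh : h ≫ (X ↘ Spec (CommRingCat.of k)) = Y ↘ Spec (CommRingCat.of k))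
    {A : X.Modules} (hA : PicF.IsInvertible A) :
    D k [A] ((Coh.push h).obj (Coh.structureModule Y)) =
      D k [(Scheme.Modules.pullback h).obj A] (Coh.structureModule Y) := by
  let O := Coh.structureModule Y
  have hP : PicF.IsInvertible ((Scheme.Modules.pullback h).obj A) := H11Ample.isInvertible_pullback h hA
  haveI : O.IsQuasicoherent := H10Coh.isQuasicoherent_unit
  haveI : ((Scheme.Modules.pullback h).obj A).IsQuasicoherent := (H11Ample.isCoh_of_isInvertible hP).1
  obtain ⟨eT⟩ := H10Coh.Tw.nonempty_push_tensor_iso h O hA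
  show Curv2.euler k X _ - Curv2.euler k X _ = Curv2.euler k Y _ - Curv2.euler k Y _
  rw [H25Euler.euler_congr (H10Coh.Tw.commIso A ((Coh.push h).obj O) ≪≫ eT ≪≫
      (Coh.push h).mapIso (H10Coh.Tw.leftUnitIso _)),
    Push.euler_push k h hh O, Push.euler_push k h hh _,
    H25Euler.euler_congr (H10Coh.Tw.rightUnitIso ((Scheme.Modules.pullback h).obj A))]

/-- The degree of an invertible module on a curve as an intersection number. -/
theorem curveDeg_eq (hY : topologicalKrullDim Y = 1) {P : Y.Modules} (hP : PicF.IsInvertible P) :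
    Pic13.curveDeg k (Y ↘ Spec (CommRingCat.of k)) P = - D k [P] (Coh.structureModule Y) := by
  have hd : topologicalKrullDim Y ≤ ((1 : ℕ) : WithBot ℕ∞) := hY.le
  show FGA.eulerCharLE k Y P 1 - FGA.eulerCharLE k Y (Coh.structureModule Y) 1 =
    -(Curv2.euler k Y _ - Curv2.euler k Y _)
  rw [eulerCharLE_eq k hd (H11Ample.isCoh_of_isInvertible hP).1,
    eulerCharLE_eq k hd H10Coh.isQuasicoherent_unit, H25Euler.euler_congr (H10Coh.Tw.rightUnitIso P)]
  omega

/-- Pullbacks along a constant morphism have degree zero. -/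
theorem D_pullback_const (h : Y ⟶ X) {x : X} (hconst : ∀ y, h y = x) {A : X.Modules}
    (hA : PicF.IsInvertible A) :
    D k [(Scheme.Modules.pullback h).obj A] (Coh.structureModule Y) = 0 := by
  obtain ⟨U, hxU, ⟨e⟩⟩ := hA x
  have hle : ⊤ ≤ h ⁻¹ᵁ U := fun y _ => show h y ∈ U from (hconst y).symm ▸ hxU
  let j : Y ⟶ U := IsOpenImmersion.lift U.ι h (by
    rintro _ ⟨y, rfl⟩
    rw [Scheme.Opens.range_ι]
    exact hle trivial)
  have hj : j ≫ U.ι = h := IsOpenImmersion.lift_fac _ _ _
  let P := Scheme.Modules.pullback j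
  let iso : (Scheme.Modules.pullback h).obj A ≅ Coh.structureModule Y :=
    eqToIso (by rw [hj]) ≪≫ ((Scheme.Modules.pullbackComp j U.ι).app A).symm ≪≫
      P.mapIso ((Scheme.Modules.restrictFunctorIsoPullback U.ι).symm.app A ≪≫ e) ≪≫
      H16Derived.KFlat.Stalk.structurePullbackIso j
  have h2 := D_cons_structure k (l := ([] : List Y.Modules)) (by simp) (Coh.structureModule Y)
  rw [← h2]
  show Curv2.euler k Y _ - Curv2.euler k Y _ = Curv2.euler k Y _ - Curv2.euler k Y _
  rw [H25Euler.euler_congr (PicGrp.tensorModIso iso (Iso.refl (Coh.structureModule Y)))]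

variable [IsIntegral Y]

include k in
/-- On a curve an additive function vanishing in dimension zero is determined by the structure sheaf. -/
theorem exists_mult (hY : topologicalKrullDim Y = 1) {ψ : Y.Modules → ℤ} (hψ : IsAddFn ψ)
    (h0 : ∀ F, Coh.IsCoh F → topologicalKrullDim (CohB1.support F) < ((1 : ℕ) : WithBot ℕ∞) → ψ F = 0)
    (F : Y.Modules) (hF : Coh.IsCoh F) :
    ∃ m : ℕ, ψ F = m * ψ (Coh.structureModule Y) ∧ (genericPoint Y ∈ CohB1.support F → 0 < m) := by
  haveI := isNoetherian k (X := Y)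
  refine LeadDev.devissage_induction (CohB1.support F)
    (fun G => ∃ m : ℕ, ψ G = m * ψ (Coh.structureModule Y) ∧ (genericPoint Y ∈ CohB1.support G → 0 < m))
    (fun A B ⟨e⟩ ⟨m, h1, h2⟩ => ⟨m, (hψ.congr e).symm.trans h1,
      fun h => h2 (LeadDev.support_subset_of_iso e.symm h)⟩)
    (fun A hA => ⟨0, by simp [hψ.zero hA], fun h => by simp [LeadDev.support_eq_empty_of_isZero hA] at h⟩)
    (fun S hS h₁ h₂ h₃ ⟨m₁, e₁, p₁⟩ ⟨m₃, e₃, p₃⟩ => ⟨m₁ + m₃, by
      rw [hψ.add S hS h₁ h₂ h₃, e₁, e₃]; push_cast; ring, fun h => by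
      rcases LeadDev.support_subset_of_shortExact hS h with h' | h'
      · exact Nat.lt_of_lt_of_le (p₁ h') (Nat.le_add_right _ _)
      · exact Nat.lt_of_lt_of_le (p₃ h') (Nat.le_add_left _ _)⟩)
    ?_ F hF le_rfl
  intro Z i _ _ _ _ I ι _ hI
  haveI : I.IsQuasicoherent := hI
  let ξ := i (genericPoint Z)
  let P := (Coh.push i).obj (Coh.structureModule Z)
  let G := (Coh.push i).obj I
  have hP : Coh.IsCoh P := LeadDev.isCoh_push_structure i
  have hG : Coh.IsCoh G := H10Coh.isCoh_of_mono ((Coh.push i).map ι) (H10Coh.isQuasicoherent_pushforward i I) hP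
  have hGs : CohB1.support G ⊆ Set.range i :=
    (LeadDev.support_subset_of_mono ((Coh.push i).map ι)).trans (support_push_structure_eq i).le
  have hdY : topologicalKrullDim (Set.univ : Set Y) ≤ ((1 : ℕ) : WithBot ℕ∞) :=
    Topology.IsInducing.subtypeVal.topologicalKrullDim_le.trans hY.le
  by_cases hmem : genericPoint Y ∈ Set.range i
  swap
  · exact ⟨0, by
      have hz := h0 G hG ((dim_le_of_subset hGs).trans_lt (dim_lt_of_notMem (C := Set.univ)
        (genericPoint_spec Y) hdY i.isClosedEmbedding.isClosed_range (fun _ _ => trivial) hmem))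
      rw [Nat.cast_zero, zero_mul]
      exact hz, fun h => absurd (hGs h) hmem⟩
  by_cases hne : IsZero I
  · exact ⟨0, by simp [hψ.zero ((Coh.push i).map_isZero hne)], fun h => by
      simp [LeadDev.support_eq_empty_of_isZero ((Coh.push i).map_isZero hne)] at h⟩
  refine ⟨1, ?_, fun _ => Nat.one_pos⟩
  have huniv : Set.range i = Set.univ := Set.univ_subset_iff.1
    ((genericPoint_spec Y).symm.le.trans (closure_minimal (Set.singleton_subset_iff.2 hmem)
      i.isClosedEmbedding.isClosed_range))
  haveI : Surjective i := ⟨Set.range_eq_univ.1 huniv⟩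
  haveI : IsIso i := isIso_of_isClosedImmersion_of_surjective i
  haveI := H28Pinch.isIso_unit_of_isFinLocFree i (fun U => ConcreteCategory.bijective_of_isIso (i.app U))
    (Coh.structureModule Y) (H28Pinch.isFinLocFree_of_isInvertible (isInvertible_structureModule Y))
  let e : Coh.structureModule Y ≅ P :=
    asIso ((Scheme.Modules.pullbackPushforwardAdjunction i).unit.app (Coh.structureModule Y)) ≪≫
      (Coh.push i).mapIso (H16Derived.KFlat.Stalk.structurePullbackIso i)
  let φ := (Coh.push i).map ι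
  have hQ := H10Coh.isCoh_cokernel φ hG.1 hP
  have hS : (ShortComplex.mk φ (cokernel.π φ) (cokernel.condition φ)).ShortExact :=
    ShortComplex.ShortExact.mk' (ShortComplex.exact_cokernel φ) inferInstance inferInstance
  obtain ⟨W, hW, hξW, -⟩ := exists_isAffineOpen_mem_and_subset (U := (⊤ : Y.Opens)) (x := ξ) trivial
  have hcl : closure {ξ} = Set.range i := (LeadDev.range_eq_closure i (ξ := ξ) rfl).symm
  have hQ0 := h0 (cokernel φ) hQ
    (dim_lt_of_notMem hcl (huniv ▸ hdY) (H10Coh.isClosed_support _ hQ.2)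
      (fun x hx => (support_push_structure_eq i).le (LeadDev.support_subset_of_epi (cokernel.π φ) hx))
      (LeadDev.notMem_support_cokernel φ hG.1 hP.1 hW hξW (LeadDev.surjAt_push_map i rfl I ι hI hne hW hξW)))
  have hadd := hψ.add _ hS hG hP hQ
  change ψ P = ψ G + ψ (cokernel φ) at hadd
  rw [hQ0, add_zero] at hadd
  rw [Nat.cast_one, one_mul, hψ.congr e]
  exact hadd.symm

end Groth.Agent.H28Int.Curves
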