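import Groth.Agent.H28Int.Core
import Groth.Agent.H10Coh.Proper2
import Groth.Agent.H10Coh.AffinePush

/-!
# Euler characteristics of direct images along affine morphisms
-/

set_option autoImplicit false
set_option linter.style.haveILetI false
universe u

open CategoryTheory CategoryTheory.Limits AlgebraicGeometry Opposite TopologicalSpace
open Groth.Agent.H10Coh

namespace Groth.Agent.H28Int.Push

attribute [local instance 10000] hasSheafifyAb hasWeakSheafifyAb hasExtAb enoughInjAb
attribute [local instance] enoughInjMod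

variable (k : Type u) [Field k] {X Z : Scheme.{u}} [X.Over (Spec (CommRingCat.of k))]
  [Z.Over (Spec (CommRingCat.of k))]

/-- Cohomology of a direct image along an affine morphism, linearly. -/
theorem finrank_HH_push (i : Z ⟶ X) [IsAffineHom i]
    (hi : i ≫ (X ↘ Spec (CommRingCat.of k)) = Z ↘ Spec (CommRingCat.of k))
    (G : Z.Modules) [G.IsQuasicoherent] (n : ℕ) :
    Module.finrank k (Coh.HH X ((Coh.push i).obj G) n) = Module.finrank k (Coh.HH Z G n) := by
  let ψX : k →+* Γ(X, ⊤) := globA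
  let ψZ : k →+* Γ(Z, ⊤) := globA
  have hψ : ψZ = i.appTop.hom.comp ψX := by
    show toΓ (Z ↘ Spec (CommRingCat.of k)) = i.appTop.hom.comp (toΓ (X ↘ Spec (CommRingCat.of k)))
    rw [← toΓ_comp, hi]
  let P := (Coh.push i).obj G
  letI := (actM ψX P).mod n ⊤
  letI := (actM ψZ G).mod n ⊤
  let e₁ : Coh.HH X P n ≃ₗ[k] HnM P n ⊤ := { HHEquiv P n with map_smul' := HHEquiv_smul' P n }
  let e₂ : Coh.HH Z G n ≃ₗ[k] HnM G n ⊤ := { HHEquiv G n with map_smul' := HHEquiv_smul' G n }
  let e₀ : HnM P n ⊤ ≃ₗ[k] HnM G n ⊤ :=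
    { affineLerayEquiv i G n ⊤ with
      map_smul' := fun a x => by
        change affineLerayEquiv i G n ⊤ (postH (smulSh P (ψX a)) n ⊤ x) =
          postH (smulSh G (ψZ a)) n ⊤ (affineLerayEquiv i G n ⊤ x)
        rw [smulSh_push i G (ψX a), hψ]
        exact FRes.pushEquiv_natural i.base (mResSmul (MRes.inj G) (i.appTop (ψX a)))
          (epi_push_of_isAffineHom i G) (epi_push_of_isAffineHom i G) n ⊤ x }
  exact (e₁.trans (e₀.trans e₂.symm)).finrank_eq

theorem euler_push (i : Z ⟶ X) [IsAffineHom i]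
    (hi : i ≫ (X ↘ Spec (CommRingCat.of k)) = Z ↘ Spec (CommRingCat.of k))
    (G : Z.Modules) [G.IsQuasicoherent] :
    Curv2.euler k X ((Coh.push i).obj G) = Curv2.euler k Z G :=
  finsum_congr fun p => by rw [finrank_HH_push k i hi G p]

end Groth.Agent.H28Int.Push
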