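import Groth.Agent.H28Int.Positive
import Groth.Agent.H28Int.Push
import Groth.Prelude.Def_Pic13
import Groth.Agent.H10Coh.SerreVanishing

/-!
# Intersection numbers only depend on numerical classes
-/

set_option autoImplicit false
set_option linter.style.haveILetI false
universe u

open CategoryTheory CategoryTheory.Limits AlgebraicGeometry Opposite TopologicalSpace

namespace Groth.Agent.H28Int.Num

variable {X : Scheme.{u}} (k : Type u) [Field k] [X.Over (Spec (CommRingCat.of k))]
  [IsProper (X ↘ Spec (CommRingCat.of k))]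

/-- Equality of two intersection functions in dimensions at most `r`. -/
def EqOn (r : ℕ) (l l' : List X.Modules) : Prop :=
  ∀ F : X.Modules, Coh.IsCoh F → topologicalKrullDim (CohB1.support F) ≤ (r : WithBot ℕ∞) → D k l F = D k l' F

theorem eqOn_cons {r : ℕ} {l l' : List X.Modules} (hl : ∀ A ∈ l, PicF.IsInvertible A)
    (hl' : ∀ A ∈ l', PicF.IsInvertible A) (h : EqOn k r l l') {A : X.Modules} (hA : PicF.IsInvertible A) :
    EqOn k (r + 1) (A :: l) (A :: l') := by
  intro F hF hd
  haveI := isNoetherian k (X := X)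
  have hψ := (isAddFn_D k l hl).sub (isAddFn_D k l' hl')
  have := hψ.twist_eq (r := r + 1) (fun G hG hG' => by
    rw [sub_eq_zero]
    refine h G hG ?_
    rcases hdim : topologicalKrullDim (CohB1.support G) with _ | n
    · exact bot_le
    · rw [hdim] at hG'
      have : n < ((r + 1 : ℕ) : ℕ∞) := WithBot.coe_lt_coe.1 hG'
      exact WithBot.coe_le_coe.2 (ENat.lt_natCast_add_one_iff.1 (by exact_mod_cast this))) hA hF hd
  show D k l F - D k l (CohB1.tensorMod A F) = D k l' F - D k l' (CohB1.tensorMod A F)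
  omega

theorem D_swap {A B : X.Modules} {l : List X.Modules} (hl : ∀ A ∈ l, PicF.IsInvertible A) (F : X.Modules) :
    D k (A :: B :: l) F = D k (B :: A :: l) F := by
  show (D k l F - D k l (CohB1.tensorMod B F)) -
      (D k l (CohB1.tensorMod A F) - D k l (CohB1.tensorMod B (CohB1.tensorMod A F))) =
    (D k l F - D k l (CohB1.tensorMod A F)) -
      (D k l (CohB1.tensorMod B F) - D k l (CohB1.tensorMod A (CohB1.tensorMod B F)))
  rw [(isAddFn_D k l hl).congr ((H10Coh.Tw.assoc A B F).symm ≪≫
    PicGrp.tensorModIso (H10Coh.Tw.commIso A B) (Iso.refl F) ≪≫ H10Coh.Tw.assoc B A F)]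
  omega

theorem eqOn_head {A B : X.Modules} (hA : PicF.IsInvertible A) (hB : PicF.IsInvertible B)
    (h1 : EqOn k 1 [A] [B]) : ∀ l : List X.Modules, (∀ C ∈ l, PicF.IsInvertible C) →
      EqOn k (l.length + 1) (A :: l) (B :: l)
  | [], _ => h1
  | C :: l, hl => by
    intro F hF hd
    have hl' := fun E hE => hl E (List.mem_cons_of_mem C hE)
    refine (D_swap k hl' F).trans (Eq.trans ?_ (D_swap k hl' F).symm)
    exact eqOn_cons k (List.forall_mem_cons.2 ⟨hA, hl'⟩) (List.forall_mem_cons.2 ⟨hB, hl'⟩)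
      (eqOn_head hA hB h1 l hl') (hl C List.mem_cons_self) F hF hd

theorem eqOn_ofFn : ∀ (r : ℕ) (M M' : Fin r → X.Modules), (∀ i, PicF.IsInvertible (M i)) →
    (∀ i, PicF.IsInvertible (M' i)) → (∀ i, EqOn k 1 [M i] [M' i]) →
    EqOn k r (List.ofFn M) (List.ofFn M')
  | 0, M, M', _, _, _ => fun F _ _ => by rw [List.ofFn_zero, List.ofFn_zero]
  | r + 1, M, M', hM, hM', h => by
    intro F hF hd
    rw [List.ofFn_succ, List.ofFn_succ]
    have hlen : (List.ofFn fun i : Fin r => M' i.succ).length = r := List.length_ofFn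
    refine (eqOn_cons k (mem_ofFn fun i => hM i.succ) (mem_ofFn fun i => hM' i.succ)
      (eqOn_ofFn r (fun i => M i.succ) (fun i => M' i.succ) (fun i => hM _) (fun i => hM' _) fun i => h _)
      (hM 0) F hF hd).trans ?_
    exact eqOn_head k (hM 0) (hM' 0) (h 0) _ (mem_ofFn fun i => hM' i.succ) F hF (by rw [hlen]; exact hd)

/-- The degree of a restriction to an integral closed subscheme. -/
theorem D_push_structure {Z : Scheme.{u}} (i : Z ⟶ X) [IsClosedImmersion i]
    [Z.Over (Spec (CommRingCat.of k))]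
    (hi : i ≫ (X ↘ Spec (CommRingCat.of k)) = Z ↘ Spec (CommRingCat.of k))
    {A : X.Modules} (hA : PicF.IsInvertible A) :
    D k [A] ((Coh.push i).obj (Coh.structureModule Z)) =
      Curv2.euler k Z (Coh.structureModule Z) - Curv2.euler k Z ((Scheme.Modules.pullback i).obj A) := by
  let O := Coh.structureModule Z
  have hP : PicF.IsInvertible ((Scheme.Modules.pullback i).obj A) := H11Ample.isInvertible_pullback i hA
  haveI : O.IsQuasicoherent := H10Coh.isQuasicoherent_unit
  haveI : ((Scheme.Modules.pullback i).obj A).IsQuasicoherent :=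
    (H11Ample.isCoh_of_isInvertible hP).1
  obtain ⟨eT⟩ := H10Coh.Tw.nonempty_push_tensor_iso i O hA
  show Curv2.euler k X _ - Curv2.euler k X _ = _
  rw [H25Euler.euler_congr (H10Coh.Tw.commIso A ((Coh.push i).obj O) ≪≫ eT ≪≫
      (Coh.push i).mapIso (H10Coh.Tw.leftUnitIso _)),
    Push.euler_push k i hi O, Push.euler_push k i hi _]

/-- Numerically equivalent modules have the same intersection function in dimension one. -/
theorem eqOn_one {A B : X.Modules} (hA : PicF.IsInvertible A) (hB : PicF.IsInvertible B)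
    (hnum : ∀ (Y : Scheme.{u}) (ι : Y ⟶ X) [IsClosedImmersion ι], IsIntegral Y →
      topologicalKrullDim Y = 1 →
      Pic13.curveDeg k (ι ≫ (X ↘ Spec (CommRingCat.of k))) ((Scheme.Modules.pullback ι).obj A) =
        Pic13.curveDeg k (ι ≫ (X ↘ Spec (CommRingCat.of k))) ((Scheme.Modules.pullback ι).obj B)) :
    EqOn k 1 [A] [B] := by
  intro F hF hd
  haveI := isNoetherian k (X := X)
  have hlA : ∀ C ∈ [A], PicF.IsInvertible C := List.forall_mem_singleton.2 hA
  have hlB : ∀ C ∈ [B], PicF.IsInvertible C := List.forall_mem_singleton.2 hB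
  have hψ := (isAddFn_D k [A] hlA).sub (isAddFn_D k [B] hlB)
  have h0 : ∀ G : X.Modules, Coh.IsCoh G → topologicalKrullDim (CohB1.support G) < ((1 : ℕ) : WithBot ℕ∞) →
      D k [A] G - D k [B] G = 0 := fun G hG hG' => by
    rw [D_eq_zero k [A] hlA G hG hG', D_eq_zero k [B] hlB G hG hG', sub_self]
  rw [← sub_eq_zero]
  refine LeadDev.devissage_induction (CohB1.support F) (fun G => D k [A] G - D k [B] G = 0)
    (fun P Q ⟨e⟩ h => (hψ.congr e).symm.trans h) (fun P hP => hψ.zero hP)
    (fun S hS h₁ h₂ h₃ p₁ p₃ => (hψ.add S hS h₁ h₂ h₃).trans (by rw [p₁, p₃, add_zero]))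
    ?_ F hF le_rfl
  intro Z i _ _ hrange _ I ι _ hI
  let ξ := i (genericPoint Z)
  have hrd : topologicalKrullDim (Set.range i) ≤ ((1 : ℕ) : WithBot ℕ∞) := (dim_le_of_subset hrange).trans hd
  have hcl : closure {ξ} = Set.range i := (LeadDev.range_eq_closure i (ξ := ξ) rfl).symm
  by_cases hne : IsZero I
  · exact hψ.zero ((Coh.push i).map_isZero hne)
  haveI : I.IsQuasicoherent := hI
  let P := (Coh.push i).obj (Coh.structureModule Z)
  let G := (Coh.push i).obj I
  have hP : Coh.IsCoh P := LeadDev.isCoh_push_structure i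
  have hG : Coh.IsCoh G := H10Coh.isCoh_of_mono ((Coh.push i).map ι) (H10Coh.isQuasicoherent_pushforward i I) hP
  let φ := (Coh.push i).map ι
  have hQ := H10Coh.isCoh_cokernel φ hG.1 hP
  have hS : (ShortComplex.mk φ (cokernel.π φ) (cokernel.condition φ)).ShortExact :=
    ShortComplex.ShortExact.mk' (ShortComplex.exact_cokernel φ) inferInstance inferInstance
  obtain ⟨W, hW, hξW, -⟩ := exists_isAffineOpen_mem_and_subset (U := (⊤ : X.Opens)) (x := ξ) trivial
  have hQ0 := h0 (cokernel φ) hQ
    (dim_lt_of_notMem hcl hrd (H10Coh.isClosed_support _ hQ.2)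
      (fun x hx => (support_push_structure_eq i).le (LeadDev.support_subset_of_epi (cokernel.π φ) hx))
      (LeadDev.notMem_support_cokernel φ hG.1 hP.1 hW hξW (LeadDev.surjAt_push_map i rfl I ι hI hne hW hξW)))
  have hadd := hψ.add _ hS hG hP hQ
  change D k [A] P - D k [B] P = (D k [A] G - D k [B] G) + (D k [A] (cokernel φ) - D k [B] (cokernel φ)) at hadd
  rw [hQ0, add_zero] at hadd
  refine hadd.symm.trans ?_
  have hdZ : topologicalKrullDim Z = topologicalKrullDim (Set.range i) :=
    (i.isClosedEmbedding.isEmbedding.toHomeomorph).isHomeomorph.topologicalKrullDim_eq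
  by_cases hlt : topologicalKrullDim Z < ((1 : ℕ) : WithBot ℕ∞)
  · exact h0 P hP (by rw [support_push_structure_eq i, ← hdZ]; exact hlt)
  have h1 : topologicalKrullDim Z = ((1 : ℕ) : WithBot ℕ∞) := le_antisymm (hdZ ▸ hrd) (not_lt.1 hlt)
  letI : Z.Over (Spec (CommRingCat.of k)) := ⟨i ≫ (X ↘ Spec (CommRingCat.of k))⟩
  haveI : IsProper (Z ↘ Spec (CommRingCat.of k)) :=
    inferInstanceAs (IsProper (i ≫ (X ↘ Spec (CommRingCat.of k))))
  have h := hnum Z i inferInstance (h1.trans (by simp))
  have hPA : PicF.IsInvertible ((Scheme.Modules.pullback i).obj A) := H11Ample.isInvertible_pullback i hA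
  have hPB : PicF.IsInvertible ((Scheme.Modules.pullback i).obj B) := H11Ample.isInvertible_pullback i hB
  simp only [Pic13.curveDeg] at h
  change FGA.eulerCharLE k Z _ 1 - _ = FGA.eulerCharLE k Z _ 1 - _ at h
  rw [eulerCharLE_eq k h1.le (H11Ample.isCoh_of_isInvertible hPA).1,
    eulerCharLE_eq k h1.le (H11Ample.isCoh_of_isInvertible hPB).1] at h
  rw [D_push_structure k i rfl hA, D_push_structure k i rfl hB]
  omega

end Groth.Agent.H28Int.Num
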