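import Groth.Agent.H28Int.Core
import Groth.Agent.H16Derived.KFlat.LTensorAssoc
import Groth.Agent.H16Derived.KFlat.FlatCriterion
import Groth.Agent.H10Coh.TensorBasics

/-!
# The sheaf Hom out of an invertible module
-/

set_option autoImplicit false
set_option linter.style.haveILetI false
universe u

open CategoryTheory CategoryTheory.Limits AlgebraicGeometry MonoidalCategory

namespace Groth.Agent.H28Int

open H16Derived.KFlat.Stalk

variable {X : Scheme.{u}}

/-- `O ⊗ - ≅ id`. -/
noncomputable def tensorLeftUnitIso : (DCoh.tensorBi (X := X)).obj (Coh.structureModule X) ≅ 𝟭 X.Modules :=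
  haveI : (SheafOfModules.forget.{u} X.ringCatSheaf ⋙
      PresheafOfModules.restrictScalars.{u} (𝟙 X.ringCatSheaf.obj)).Full :=
    inferInstanceAs (SheafOfModules.forget.{u} X.ringCatSheaf ⋙ 𝟭 _).Full
  haveI : (SheafOfModules.forget.{u} X.ringCatSheaf ⋙
      PresheafOfModules.restrictScalars.{u} (𝟙 X.ringCatSheaf.obj)).Faithful :=
    inferInstanceAs (SheafOfModules.forget.{u} X.ringCatSheaf ⋙ 𝟭 _).Faithful
  haveI hc := Adjunction.counit_isIso_of_R_fully_faithful
    (PresheafOfModules.sheafificationAdjunction.{u, u, u, u} (R := X.ringCatSheaf)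
      (𝟙 X.ringCatSheaf.obj))
  Functor.isoWhiskerLeft DCoh.toP (Functor.isoWhiskerRight
    (leftUnitorNatIso (CohB1.PMod X)) DCoh.shP) ≪≫
  @asIso _ _ _ _ (PresheafOfModules.sheafificationAdjunction.{u, u, u, u} (R := X.ringCatSheaf)
    (𝟙 X.ringCatSheaf.obj)).counit hc

/-- Tensoring successively with a module and its inverse. -/
noncomputable def tensorInverseIso {M M' : X.Modules} (e : CohB1.tensorMod M' M ≅ Coh.structureModule X) :
    (DCoh.tensorBi (X := X)).obj M ⋙ (DCoh.tensorBi (X := X)).obj M' ≅ 𝟭 X.Modules :=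
  NatIso.ofComponents (fun N => (((sheafAssoc (X := X)).app M').app M).symm.app N)
    (fun g => (((sheafAssoc (X := X)).app M').app M).symm.hom.naturality g) ≪≫
    (DCoh.tensorBi (X := X)).mapIso e ≪≫ tensorLeftUnitIso

/-- The sheaf Hom from an invertible module to the structure sheaf is its inverse. -/
theorem nonempty_sheafHom_iso_inverse {M M' : X.Modules} (e : CohB1.tensorMod M M' ≅ Coh.structureModule X)
    [DCoh.HasSheafHom M] :
    Nonempty ((DCoh.sheafHom M).obj (Coh.structureModule X) ≅ M') := by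
  let E : X.Modules ≌ X.Modules := CategoryTheory.Equivalence.mk ((DCoh.tensorBi (X := X)).obj M)
    ((DCoh.tensorBi (X := X)).obj M') (tensorInverseIso (H10Coh.Tw.commIso M' M ≪≫ e)).symm
    (tensorInverseIso e)
  let h : DCoh.sheafHom M ≅ (DCoh.tensorBi (X := X)).obj M' :=
    (DCoh.sheafHomAdj M).rightAdjointUniq E.toAdjunction
  exact ⟨h.app _ ≪≫ H10Coh.Tw.rightUnitIso M'⟩

end Groth.Agent.H28Int
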