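import Groth.Agent.H28Int.Vanishing
import Groth.Agent.H10Coh.AmpleVanishing
import Groth.Agent.H10Coh.TensorBasics
import Groth.Agent.LeadDev.Rules
import Groth.Prelude.Def_FGA

/-!
# Intersection numbers: invariance of additive functions under twisting by invertible modules
-/

set_option autoImplicit false
set_option linter.style.haveILetI false
universe u

open CategoryTheory CategoryTheory.Limits AlgebraicGeometry Opposite TopologicalSpace

namespace Groth.Agent.H28Int

variable {X : Scheme.{u}}

theorem dim_le_of_subset {A B : Set X} (h : A ⊆ B) : topologicalKrullDim A ≤ topologicalKrullDim B :=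
  Topology.IsInducing.topologicalKrullDim_le (Topology.IsEmbedding.inclusion h).isInducing

/-- A function on coherent modules which is invariant under isomorphism and additive on short exact
sequences. -/
structure IsAddFn (ψ : X.Modules → ℤ) : Prop where
  congr : ∀ {F G : X.Modules}, (F ≅ G) → ψ F = ψ G
  add : ∀ S : ShortComplex X.Modules, S.ShortExact → Coh.IsCoh S.X₁ → Coh.IsCoh S.X₂ → Coh.IsCoh S.X₃ →
    ψ S.X₂ = ψ S.X₁ + ψ S.X₃

theorem IsAddFn.zero [IsNoetherian X] {ψ : X.Modules → ℤ} (hψ : IsAddFn ψ) {N : X.Modules} (hN : IsZero N) :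
    ψ N = 0 := by
  let S : ShortComplex X.Modules := ShortComplex.mk (0 : N ⟶ N) (0 : N ⟶ N) (by simp)
  have hS : S.ShortExact :=
    { exact := ShortComplex.exact_of_isZero_X₂ _ hN
      mono_f := ⟨fun a b _ => hN.eq_of_tgt _ _⟩
      epi_g := ⟨fun a b _ => hN.eq_of_src _ _⟩ }
  have h := hψ.add S hS (LeadDev.isCoh_of_isZero hN) (LeadDev.isCoh_of_isZero hN) (LeadDev.isCoh_of_isZero hN)
  change ψ N = ψ N + ψ N at h
  omega

theorem tensor_shortExact {S : ShortComplex X.Modules} (hS : S.ShortExact) {M : X.Modules}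
    (hM : PicF.IsInvertible M) : (S.map ((DCoh.tensorBi (X := X)).flip.obj M)).ShortExact :=
  H16Derived.KFlat.Stalk.isFlatObj_of_isFlat
    (H16Derived.KFlat.Stalk.isFlat_of_isFinLocFree (H28Pinch.isFinLocFree_of_isInvertible hM)) S hS

theorem isCoh_twist {M F : X.Modules} (hM : PicF.IsInvertible M) (hF : Coh.IsCoh F) [IsNoetherian X] :
    Coh.IsCoh (CohB1.tensorMod M F) :=
  H10Coh.isCoh_of_iso (H10Coh.Tw.commIso F M) (H11Ample.isCoh_tensor hF hM)

theorem support_twist (M F : X.Modules) :
    CohB1.support (CohB1.tensorMod M F) ⊆ CohB1.support F :=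
  (LeadDev.support_subset_of_iso (H10Coh.Tw.commIso M F)).trans (H25Euler.support_tensor_subset F M)

theorem IsAddFn.twist [IsNoetherian X] {ψ : X.Modules → ℤ} (hψ : IsAddFn ψ) {M : X.Modules} (hM : PicF.IsInvertible M) :
    IsAddFn fun F => ψ (CohB1.tensorMod M F) where
  congr e := hψ.congr (PicGrp.tensorModIso (Iso.refl M) e)
  add S hS h₁ h₂ h₃ := by
    have h := hψ.add _ (tensor_shortExact hS hM) (H11Ample.isCoh_tensor h₁ hM)
      (H11Ample.isCoh_tensor h₂ hM) (H11Ample.isCoh_tensor h₃ hM)
    change ψ (CohB1.tensorMod S.X₂ M) = ψ (CohB1.tensorMod S.X₁ M) + ψ (CohB1.tensorMod S.X₃ M) at h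
    simp only [hψ.congr (H10Coh.Tw.commIso M _)]
    exact h

theorem IsAddFn.sub {ψ φ : X.Modules → ℤ} (hψ : IsAddFn ψ) (hφ : IsAddFn φ) :
    IsAddFn fun F => ψ F - φ F where
  congr e := by simp only [hψ.congr e, hφ.congr e]
  add S hS h₁ h₂ h₃ := by
    simp only [hψ.add S hS h₁ h₂ h₃, hφ.add S hS h₁ h₂ h₃]
    ring

/-- A morphism which is an isomorphism near the generic point of the support does not change an
additive function vanishing on modules with small support. -/
theorem IsAddFn.eq_of_isIso_restrict [IsNoetherian X] {ψ : X.Modules → ℤ} (hψ : IsAddFn ψ) {r : ℕ}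
    (h0 : ∀ F, Coh.IsCoh F → topologicalKrullDim (CohB1.support F) < (r : WithBot ℕ∞) → ψ F = 0)
    {C : Set X} (hC : IsClosed C) {η : X} (hη : closure {η} = C) (hd : topologicalKrullDim C ≤ r)
    (U : X.Opens) (hηU : η ∈ U) {G F : X.Modules} (φ : G ⟶ F) (hG : Coh.IsCoh G) (hF : Coh.IsCoh F)
    (hGC : CohB1.support G ⊆ C) (hFC : CohB1.support F ⊆ C)
    [IsIso ((Scheme.Modules.restrictFunctor U.ι).map φ)] : ψ G = ψ F := by
  let R := Scheme.Modules.restrictFunctor U.ι
  have hK := H10Coh.isCoh_kernel φ hG hF.1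
  have hQ := H10Coh.isCoh_cokernel φ hG.1 hF
  have hI := H10Coh.isCoh_kernel (cokernel.π φ) hF hQ.1
  have hS₁ : (ShortComplex.mk (kernel.ι φ) (Abelian.factorThruImage φ)
      (by rw [← cancel_mono (Abelian.image.ι φ), Category.assoc, Abelian.image.fac, kernel.condition,
        zero_comp])).ShortExact :=
    { exact := ShortComplex.exact_of_f_is_kernel _ (KernelFork.IsLimit.ofι' _ _ fun g hg =>
        ⟨kernel.lift φ g (by
          rw [← Abelian.image.fac φ, ← Category.assoc, hg, zero_comp]), kernel.lift_ι _ _ _⟩)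
      epi_g := inferInstanceAs (Epi (Abelian.factorThruImage φ)) }
  have hS₂ : (ShortComplex.mk (kernel.ι (cokernel.π φ)) (cokernel.π φ) (kernel.condition _)).ShortExact :=
    { exact := ShortComplex.exact_kernel _ }
  have hlow : ∀ N : X.Modules, Coh.IsCoh N → CohB1.support N ⊆ C → IsZero (R.obj N) → ψ N = 0 := by
    intro N hN hNC hz
    refine h0 N hN ?_
    haveI : QuasiSober C := hC.isClosedEmbedding_subtypeVal.quasiSober
    have hlt : topologicalKrullDim C < ((r + 1 : ℕ) : WithBot ℕ∞) :=
      lt_of_le_of_lt hd (WithBot.coe_lt_coe.2 (ENat.natCast_lt_natCast.2 (Nat.lt_succ_self r)))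
    have h := H25Euler.dim_lt_of_forall_ne (Y := C) (Subtype.val ⁻¹' CohB1.support N)
      ((H10Coh.isClosed_support N hN.2).preimage continuous_subtype_val)
      (fun y _ => ⟨⟨η, hη ▸ subset_closure rfl⟩, (subtype_specializes_iff _ _).2
        (specializes_iff_mem_closure.2 (by rw [hη]; exact y.2)), fun hm =>
          LeadDev.notMem_support_of_isZero_restrict U.ι hz
            (show η ∈ Set.range U.ι by rw [Scheme.Opens.range_ι]; exact hηU) hm⟩) hlt
    let e : CohB1.support N ≃ₜ (Subtype.val ⁻¹' CohB1.support N : Set C) :=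
      { toFun := fun x => ⟨⟨x.1, hNC x.2⟩, x.2⟩
        invFun := fun x => ⟨x.1.1, x.2⟩
        left_inv := fun _ => rfl
        right_inv := fun _ => rfl }
    rwa [e.isHomeomorph.topologicalKrullDim_eq]
  have zK : IsZero (R.obj (kernel φ)) := by
    refine (IsZero.iff_id_eq_zero _).2 ?_
    have h0' : R.map (kernel.ι φ) = 0 := by
      rw [← cancel_mono (R.map φ), ← R.map_comp, kernel.condition, R.map_zero, zero_comp]
    haveI : Mono (R.map (kernel.ι φ)) := inferInstance
    rw [← cancel_mono (R.map (kernel.ι φ))]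
    exact (Category.id_comp _).trans (h0'.trans zero_comp.symm)
  have zQ : IsZero (R.obj (cokernel φ)) := by
    refine (IsZero.iff_id_eq_zero _).2 ?_
    have h0' : R.map (cokernel.π φ) = 0 := by
      rw [← cancel_epi (R.map φ), ← R.map_comp, cokernel.condition, R.map_zero, comp_zero]
    haveI : Epi (R.map (cokernel.π φ)) := inferInstance
    rw [← cancel_epi (R.map (cokernel.π φ))]
    exact (Category.comp_id _).trans (h0'.trans comp_zero.symm)
  have e1 := hψ.add _ hS₁ hK hG hI
  have e2 := hψ.add _ hS₂ hI hF hQ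
  change ψ G = ψ (kernel φ) + ψ (kernel (cokernel.π φ)) at e1
  change ψ F = ψ (kernel (cokernel.π φ)) + ψ (cokernel φ) at e2
  rw [hlow _ hK ((LeadDev.support_subset_of_mono (kernel.ι φ)).trans hGC) zK] at e1
  rw [hlow _ hQ ((LeadDev.support_subset_of_epi (cokernel.π φ)).trans hFC) zQ] at e2
  omega

/-- An additive function vanishing on modules with support of dimension `< r` does not see twists by
invertible modules on modules with support of dimension `≤ r`. -/
theorem IsAddFn.twist_eq [IsNoetherian X] {ψ : X.Modules → ℤ} (hψ : IsAddFn ψ) {r : ℕ}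
    (h0 : ∀ F, Coh.IsCoh F → topologicalKrullDim (CohB1.support F) < (r : WithBot ℕ∞) → ψ F = 0)
    {M : X.Modules} (hM : PicF.IsInvertible M) {F : X.Modules} (hF : Coh.IsCoh F)
    (hr : topologicalKrullDim (CohB1.support F) ≤ r) : ψ (CohB1.tensorMod M F) = ψ F := by
  have hτ := hψ.twist hM
  refine LeadDev.devissage_induction (CohB1.support F) (fun G => ψ (CohB1.tensorMod M G) = ψ G)
    (fun A B ⟨e⟩ h => by rw [← hψ.congr e, ← h]; exact (hτ.congr e).symm)
    (fun A hA => (hτ.zero hA).trans (hψ.zero hA).symm)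
    (fun S hS h₁ h₂ h₃ p₁ p₃ => by
      have e := hτ.add S hS h₁ h₂ h₃
      beta_reduce at e
      rw [e, p₁, p₃, hψ.add S hS h₁ h₂ h₃])
    ?_ F hF le_rfl
  intro Z i _ _ hrange _ I ι _ hI
  let A := (Coh.push i).obj I
  haveI : I.IsQuasicoherent := hI
  have hA : Coh.IsCoh A := H10Coh.isCoh_of_mono ((Coh.push i).map ι)
    (H10Coh.isQuasicoherent_pushforward i I) (LeadDev.isCoh_push_structure i)
  have hAs : CohB1.support A ⊆ Set.range i := fun x hx => by
    by_contra hxr
    exact LeadDev.notMem_support_push i I hxr hx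
  let B := CohB1.tensorMod M A
  have hB : Coh.IsCoh B := isCoh_twist hM hA
  have hBs : CohB1.support B ⊆ Set.range i := (support_twist M A).trans hAs
  let ξ := i (genericPoint Z)
  obtain ⟨U, hξU, ⟨eM⟩⟩ := hM ξ
  obtain ⟨eT⟩ := H10Coh.Tw.nonempty_restrict_tensor U A hM
  let R := Scheme.Modules.restrictFunctor U.ι
  let f : A.restrict U.ι ≅ B.restrict U.ι :=
    (H10Coh.Tw.rightUnitIso (A.restrict U.ι)).symm ≪≫ PicGrp.tensorModIso (Iso.refl _) eM.symm ≪≫ eT ≪≫
      R.mapIso (H10Coh.Tw.commIso A M)
  obtain ⟨H, a, b, hH, hmono, ha, hb⟩ := LeadDev.exists_compare U.ι hA hB f.hom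
  haveI := ha
  haveI := hmono
  haveI : IsIso (R.map b) := by rw [hb]; infer_instance
  have hHs : CohB1.support H ⊆ Set.range i := by
    refine (LeadDev.support_subset_of_mono (biprod.lift a b)).trans ?_
    have hS : (ShortComplex.mk (biprod.inl : A ⟶ A ⊞ B) biprod.snd biprod.inl_snd).ShortExact :=
      ShortComplex.Splitting.shortExact
        { r := biprod.fst, s := biprod.inr, f_r := biprod.inl_fst, s_g := biprod.inr_snd, id := biprod.total }
    exact (LeadDev.support_subset_of_shortExact hS).trans (Set.union_subset hAs hBs)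
  have hC := i.isClosedEmbedding.isClosed_range
  have hη : closure {ξ} = Set.range i := (LeadDev.range_eq_closure i (ξ := ξ) rfl).symm
  have hd : topologicalKrullDim (Set.range i) ≤ r := (dim_le_of_subset hrange).trans hr
  exact (hψ.eq_of_isIso_restrict h0 hC hη hd U hξU b hH hB hHs hBs).symm.trans
    (hψ.eq_of_isIso_restrict h0 hC hη hd U hξU a hH hA hHs hAs)

section field

variable (k : Type u) [Field k] [X.Over (Spec (CommRingCat.of k))]

/-- The alternating sums of Euler characteristics of twists, one invertible module at a time. -/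
noncomputable def D : List X.Modules → X.Modules → ℤ
  | [], F => Curv2.euler k X F
  | A :: l, F => D l F - D l (CohB1.tensorMod A F)

variable [IsProper (X ↘ Spec (CommRingCat.of k))]

include k in
theorem isNoetherian : IsNoetherian X := by
  haveI : CompactSpace X := QuasiCompact.compactSpace_of_compactSpace (X ↘ Spec (CommRingCat.of k))
  haveI : IsLocallyNoetherian X := LocallyOfFiniteType.isLocallyNoetherian (X ↘ Spec (CommRingCat.of k))
  exact {}

theorem isAddFn_euler : IsAddFn (Curv2.euler k X) where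
  congr := H25Euler.euler_congr
  add _ hS h₁ h₂ h₃ := H25Euler.euler_add hS h₁ h₂ h₃

theorem isAddFn_D : ∀ l : List X.Modules, (∀ A ∈ l, PicF.IsInvertible A) → IsAddFn (D k l)
  | [], _ => isAddFn_euler k
  | A :: l, h => by
    haveI := isNoetherian k (X := X)
    have hl := isAddFn_D l fun B hB => h B (List.mem_cons_of_mem _ hB)
    exact hl.sub (hl.twist (h A List.mem_cons_self))

/-- Intersection numbers vanish when there are more modules than the dimension of the support. -/
theorem D_eq_zero : ∀ l : List X.Modules, (∀ A ∈ l, PicF.IsInvertible A) → ∀ F : X.Modules,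
    Coh.IsCoh F → topologicalKrullDim (CohB1.support F) < (l.length : WithBot ℕ∞) → D k l F = 0
  | [], _, F, hF, hd => by
    haveI := isNoetherian k (X := X)
    refine (isAddFn_euler k).zero (H16Derived.KFlat.Stalk.isZero_of_stalk fun x =>
      (H25Euler.notMem_support_iff F x).1 fun hx => ?_)
    haveI : Nonempty (IrreducibleCloseds (CohB1.support F)) :=
      ⟨⟨closure {⟨x, hx⟩}, isIrreducible_singleton.closure, isClosed_closure⟩⟩
    exact absurd hd (not_lt.2 Order.krullDim_nonneg)
  | A :: l, h, F, hF, hd => by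
    haveI := isNoetherian k (X := X)
    have hl := fun B hB => h B (List.mem_cons_of_mem A hB)
    have hle : topologicalKrullDim (CohB1.support F) ≤ (l.length : WithBot ℕ∞) := by
      rcases hdim : topologicalKrullDim (CohB1.support F) with _ | n
      · exact bot_le
      · rw [hdim] at hd
        have : n < ((l.length + 1 : ℕ) : ℕ∞) := WithBot.coe_lt_coe.1 hd
        exact WithBot.coe_le_coe.2 (ENat.lt_natCast_add_one_iff.1 (by exact_mod_cast this))
    show D k l F - D k l (CohB1.tensorMod A F) = 0
    rw [(isAddFn_D k l hl).twist_eq (D_eq_zero l hl) (h A List.mem_cons_self) hF hle, sub_self]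

/-- Intersection numbers do not change when the module is twisted. -/
theorem D_twist {l : List X.Modules} (hl : ∀ A ∈ l, PicF.IsInvertible A) {M F : X.Modules}
    (hM : PicF.IsInvertible M) (hF : Coh.IsCoh F)
    (hd : topologicalKrullDim (CohB1.support F) ≤ (l.length : WithBot ℕ∞)) :
    D k l (CohB1.tensorMod M F) = D k l F :=
  haveI := isNoetherian k (X := X)
  (isAddFn_D k l hl).twist_eq (D_eq_zero k l hl) hM hF hd

/-- Intersection numbers are additive in each module. -/
theorem D_cons_tensor {l : List X.Modules} (hl : ∀ A ∈ l, PicF.IsInvertible A) {A B F : X.Modules}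
    (hA : PicF.IsInvertible A) (hB : PicF.IsInvertible B) (hF : Coh.IsCoh F)
    (hd : topologicalKrullDim (CohB1.support F) ≤ ((l.length + 1 : ℕ) : WithBot ℕ∞)) :
    D k (CohB1.tensorMod A B :: l) F = D k (A :: l) F + D k (B :: l) F := by
  have h1 : D k (A :: l) (CohB1.tensorMod B F) = D k (A :: l) F :=
    D_twist k (l := A :: l) (List.forall_mem_cons.2 ⟨hA, hl⟩) hB hF (by simpa using hd)
  rw [← h1]
  show D k l F - D k l (CohB1.tensorMod (CohB1.tensorMod A B) F) =
    (D k l (CohB1.tensorMod B F) - D k l (CohB1.tensorMod A (CohB1.tensorMod B F))) +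
      (D k l F - D k l (CohB1.tensorMod B F))
  rw [(isAddFn_D k l hl).congr (H10Coh.Tw.assoc A B F)]
  ring

omit [IsProper (X ↘ Spec (CommRingCat.of k))] [X.Over (Spec (CommRingCat.of k))] in
theorem isInvertible_tensorList : ∀ l : List X.Modules, (∀ A ∈ l, PicF.IsInvertible A) →
    PicF.IsInvertible (FGA.tensorList l)
  | [], _ => fun y => ⟨⊤, trivial, ⟨Scheme.Modules.restrictUnitIso _⟩⟩
  | A :: l, h => H11Ample.isInvertible_tensor (h A List.mem_cons_self)
      (isInvertible_tensorList l fun B hB => h B (List.mem_cons_of_mem _ hB))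

/-- In a dimension bounded by `d` the truncated Euler characteristic is the Euler characteristic. -/
theorem eulerCharLE_eq {d : ℕ} (hd : topologicalKrullDim X ≤ d) {F : X.Modules} (hF : F.IsQuasicoherent) :
    FGA.eulerCharLE k X F d = Curv2.euler k X F := by
  haveI := isNoetherian k (X := X)
  haveI : X.IsSeparated := Scheme.IsSeparated.mk (by
    rw [← terminal.comp_from (X ↘ Spec (CommRingCat.of k))]; infer_instance)
  refine (H25Euler.euler_eq_sum F (d + 1) fun p hp => ?_).symm
  have h := subsingleton_HnM_of_support (X := X) ⊤ d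
    ((Topology.IsInducing.subtypeVal.topologicalKrullDim_le).trans hd) F hF (fun _ _ => trivial) p (by omega)
  exact (H10Coh.HHEquiv F p).toEquiv.subsingleton

theorem sort_image_succ {r : ℕ} (J : Finset (Fin r)) :
    (J.image Fin.succ).sort (· ≤ ·) = (J.sort (· ≤ ·)).map Fin.succ := by
  refine List.Perm.eq_of_pairwise' (r := (· ≤ ·)) (Finset.pairwise_sort _ _) ?_ ?_
  · exact (Finset.pairwise_sort J (· ≤ ·)).map _ fun a b h => Fin.succ_le_succ_iff.2 h
  · refine (List.perm_ext_iff_of_nodup (Finset.sort_nodup _ _)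
      ((Finset.sort_nodup _ _).map (Fin.succ_injective _))).2 fun a => ?_
    simp

theorem sort_insert_zero {r : ℕ} (J : Finset (Fin r)) :
    (insert 0 (J.image Fin.succ)).sort (· ≤ ·) = 0 :: (J.sort (· ≤ ·)).map Fin.succ := by
  rw [Finset.sort_insert (r := (· ≤ ·)) (fun b _ => Fin.zero_le b) (by simp [Fin.succ_ne_zero]),
    sort_image_succ]

theorem sum_eq_D : ∀ (r : ℕ) (M : Fin r → X.Modules), (∀ i, PicF.IsInvertible (M i)) → ∀ F : X.Modules,
    ∑ I : Finset (Fin r), (-1 : ℤ) ^ I.card *
      Curv2.euler k X (CohB1.tensorMod (FGA.tensorList ((I.sort (· ≤ ·)).map M)) F) =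
      D k (List.ofFn M) F
  | 0, M, _, F => by
    rw [List.ofFn_zero, Fintype.sum_unique]
    simp only [Finset.eq_empty_of_isEmpty, Finset.card_empty, pow_zero, one_mul, Finset.sort_empty,
      List.map_nil, FGA.tensorList]
    exact H25Euler.euler_congr (H10Coh.Tw.leftUnitIso F)
  | r + 1, M, hM, F => by
    classical
    have hu : (Finset.univ : Finset (Finset (Fin (r + 1)))) =
        (insert 0 ((Finset.univ : Finset (Fin r)).image Fin.succ)).powerset := by
      rw [← Finset.powerset_univ]
      congr 1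
      ext a
      cases a using Fin.cases <;> simp
    rw [List.ofFn_succ]
    change _ = D k (List.ofFn fun i => M i.succ) F - D k (List.ofFn fun i => M i.succ) (CohB1.tensorMod (M 0) F)
    rw [← sum_eq_D r (fun i => M i.succ) (fun i => hM _) F,
      ← sum_eq_D r (fun i => M i.succ) (fun i => hM _) (CohB1.tensorMod (M 0) F), hu,
      Finset.sum_powerset_insert (by simp [Fin.succ_ne_zero]), Finset.powerset_image,
      Finset.sum_image (fun a _ b _ h => Finset.image_injective (Fin.succ_injective _) h),
      Finset.sum_image (fun a _ b _ h => Finset.image_injective (Fin.succ_injective _) h),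
      Finset.powerset_univ, sub_eq_add_neg, ← Finset.sum_neg_distrib]
    congr 1 <;> refine Finset.sum_congr rfl fun J _ => ?_
    · rw [Finset.card_image_of_injective _ (Fin.succ_injective _), sort_image_succ, List.map_map]
      rfl
    · rw [Finset.card_insert_of_notMem (by simp [Fin.succ_ne_zero]),
        Finset.card_image_of_injective _ (Fin.succ_injective _), sort_insert_zero, List.map_cons, List.map_map,
        pow_succ, mul_neg_one, neg_mul]
      congr 2
      exact H25Euler.euler_congr (PicGrp.tensorModIso (H10Coh.Tw.commIso _ _) (Iso.refl F) ≪≫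
        H10Coh.Tw.assoc _ _ _)

/-- The intersection symbol as an iterated difference. -/
theorem intNum_eq {d : ℕ} (hd : topologicalKrullDim X ≤ d) {r : ℕ} (M : Fin r → X.Modules)
    (hM : ∀ i, PicF.IsInvertible (M i)) {F : X.Modules} (hF : Coh.IsCoh F) :
    FGA.intNum k X d M F = D k (List.ofFn M) F := by
  haveI := isNoetherian k (X := X)
  rw [← sum_eq_D k r M hM F, FGA.intNum]
  refine Finset.sum_congr rfl fun I _ => ?_
  rw [eulerCharLE_eq k hd (isCoh_twist (isInvertible_tensorList _ (by
    simp only [List.mem_map]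
    rintro _ ⟨i, -, rfl⟩
    exact hM i)) hF).1]

theorem mem_ofFn {r : ℕ} {M : Fin r → X.Modules} (hM : ∀ i, PicF.IsInvertible (M i)) :
    ∀ A ∈ List.ofFn M, PicF.IsInvertible A := by
  intro A hA
  obtain ⟨i, rfl⟩ := List.mem_ofFn.1 hA
  exact hM i

end field

end Groth.Agent.H28Int
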