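import Groth.Agent.H28Int.Core
import Groth.Agent.LeadBC.Chart
import Groth.Agent.LeadBC.Basic
import Groth.Agent.H8Props.FibreStalk

/-!
# Invariance of Euler characteristics under extensions of the ground field
-/

set_option autoImplicit false
set_option linter.style.haveILetI false
universe u

open CategoryTheory CategoryTheory.Limits AlgebraicGeometry

namespace Groth.Agent.H28Int.FieldExt

variable {k : Type u} [Field k]

theorem flat_of_isField {R : Type u} [CommRing R] {N : Type u} [AddCommGroup N] [Module R N]
    (hR : IsField R) : Module.Flat R N := by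
  letI := hR.toField
  exact Module.Flat.of_free

/-- Every module is flat over the spectrum of a field. -/
theorem isFlatOver_of_field {X : Scheme.{u}} (f : X ⟶ Spec (CommRingCat.of k)) (M : X.Modules) :
    FlatMod.IsFlatOver f M := fun x => by
  have hk : IsField (CommRingCat.of k) := Field.toIsField k
  letI := FlatMod.moduleStalkOver f M x
  show Module.Flat _ _
  exact flat_of_isField (H8Props.FibreStalk.isField_stalk_Spec (CommRingCat.of k) hk (f x))

/-- The dimension of each cohomology group does not change under an extension of the ground field. -/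
theorem finrank_HH_bc {X : Scheme.{u}} [X.Over (Spec (CommRingCat.of k))]
    [IsProper (X ↘ Spec (CommRingCat.of k))] (K : Type u) [Field K] [Algebra k K]
    {X' : Scheme.{u}} [X'.Over (Spec (CommRingCat.of K))] {q : X' ⟶ X}
    (hsq : IsPullback q (X' ↘ Spec (CommRingCat.of K)) (X ↘ Spec (CommRingCat.of k))
      (Spec.map (CommRingCat.ofHom (algebraMap k K))))
    {F : X.Modules} (hF : Coh.IsCoh F) (p : ℕ) :
    Module.finrank K (Coh.HH X' ((Scheme.Modules.pullback q).obj F) p) =
      Module.finrank k (Coh.HH X F p) := by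
  obtain ⟨ι, hι, U, hU, ⟨m⟩⟩ := LeadBC.exists_model k F hF (isFlatOver_of_field _ F)
  haveI := hι
  haveI : F.IsQuasicoherent := hF.1
  let z : PrimeSpectrum k := ⟨⊥, Ideal.isPrime_bot⟩
  have h1 := m.finrank_bc hU hsq z
    ((RingHom.injective_iff_ker_eq_bot _).1 (algebraMap k K).injective) _ (Iso.refl _) p
  have hid : IsPullback (𝟙 X) (X ↘ Spec (CommRingCat.of k)) (X ↘ Spec (CommRingCat.of k))
      (Spec.map (CommRingCat.ofHom (algebraMap k k))) := by
    rw [show Spec.map (CommRingCat.ofHom (algebraMap k k)) = 𝟙 _ from Spec.map_id _]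
    exact IsPullback.of_horiz_isIso ⟨by simp⟩
  have h2 := m.finrank_bc hU hid z
    ((RingHom.injective_iff_ker_eq_bot _).1 (algebraMap k k).injective) F
    ((Scheme.Modules.pullbackId X).app F).symm p
  exact h1.trans h2.symm

theorem euler_bc {X : Scheme.{u}} [X.Over (Spec (CommRingCat.of k))]
    [IsProper (X ↘ Spec (CommRingCat.of k))] (K : Type u) [Field K] [Algebra k K]
    {X' : Scheme.{u}} [X'.Over (Spec (CommRingCat.of K))] {q : X' ⟶ X}
    (hsq : IsPullback q (X' ↘ Spec (CommRingCat.of K)) (X ↘ Spec (CommRingCat.of k))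
      (Spec.map (CommRingCat.ofHom (algebraMap k K))))
    {F : X.Modules} (hF : Coh.IsCoh F) :
    Curv2.euler K X' ((Scheme.Modules.pullback q).obj F) = Curv2.euler k X F :=
  finsum_congr fun p => by rw [finrank_HH_bc K hsq hF p]

theorem eulerCharLE_bc {X : Scheme.{u}} [X.Over (Spec (CommRingCat.of k))]
    [IsProper (X ↘ Spec (CommRingCat.of k))] (K : Type u) [Field K] [Algebra k K]
    {X' : Scheme.{u}} [X'.Over (Spec (CommRingCat.of K))] {q : X' ⟶ X}
    (hsq : IsPullback q (X' ↘ Spec (CommRingCat.of K)) (X ↘ Spec (CommRingCat.of k))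
      (Spec.map (CommRingCat.ofHom (algebraMap k K))))
    {F : X.Modules} (hF : Coh.IsCoh F) (d : ℕ) :
    FGA.eulerCharLE K X' ((Scheme.Modules.pullback q).obj F) d = FGA.eulerCharLE k X F d :=
  Finset.sum_congr rfl fun p _ => by rw [finrank_HH_bc K hsq hF p]

end Groth.Agent.H28Int.FieldExt
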