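import Groth.Agent.H28Int.Curves
import Groth.Agent.H28Int.Dual
import Groth.Agent.H28Vert.Symm
import Groth.Agent.H28Alg.RegularUFD
import Groth.Agent.H19Grp.RegularSmooth
import Groth.Agent.H8Props.FieldDimEquidim
import Groth.Agent.S1684
import Groth.Agent.S8914

/-!
# Curves on smooth surfaces as divisors
-/

set_option autoImplicit false
set_option linter.style.haveILetI false
set_option backward.isDefEq.respectTransparency.types false
universe u

open CategoryTheory CategoryTheory.Limits AlgebraicGeometry TopologicalSpace
open Groth.Agent.H8Props.FieldDim (cdim)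

namespace Groth.Agent.H28Int

variable (k : Type u) [Field k] {S C : Scheme.{u}} [S.Over (Spec (CommRingCat.of k))] [IsIntegral S]

/-- The ideal of an integral curve on a smooth surface is invertible. -/
theorem isInvertible_idealMod_curve [Smooth (S ↘ (Spec (CommRingCat.of k)))] (hdim : topologicalKrullDim S = 2)
    (i : C ⟶ S) [IsClosedImmersion i] [IsIntegral C] (hC : topologicalKrullDim C = 1) :
    PicF.IsInvertible (ClSub.idealMod i.ker) := by
  let f := S ↘ (Spec (CommRingCat.of k))
  haveI : IsLocallyNoetherian S := LocallyOfFiniteType.isLocallyNoetherian f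
  haveI : IsIso i.toImage := inferInstance
  haveI : Nonempty i.ker.subscheme := ⟨i.toImage (genericPoint C)⟩
  haveI : IsIntegral i.ker.subscheme := isIntegral_of_isOpenImmersion (inv i.toImage)
  refine (S8914.result i.ker).2 (S1684.result S i.ker ?_ fun x _ => ?_)
  · let η := i.ker.subschemeι (genericPoint ↥i.ker.subscheme)
    have hcl : closure {η} = Set.range i := by
      have hs : Set.range i.ker.subschemeι = Set.range i := by
        rw [Scheme.IdealSheafData.range_subschemeι, Scheme.Hom.support_ker]
        exact i.isClosedEmbedding.isClosed_range.closure_eq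
      rw [← hs, LeadDev.range_eq_closure i.ker.subschemeι (ξ := η) rfl]
    have hc : cdim η = ((1 : ℕ) : WithBot ℕ∞) := by
      show topologicalKrullDim (closure ({η} : Set S)) = _
      rw [hcl, (IsHomeomorph.topologicalKrullDim_eq _ i.isClosedEmbedding.isEmbedding.toHomeomorph.isHomeomorph).symm, hC]
      rfl
    have h := H8Props.FieldDim.localDim_eq_stalk_add_cdim f η
    rw [H8Props.FieldDim.localDim_eq_dim_of_irreducible f η, hdim, hc] at h
    exact H8Props.FieldDim.withBot_nat_cancel (m := 1) h.symm
  · haveI := H19Grp.isRegularLocalRing_stalk_of_smooth f x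
    have hd : IsDomain (S.presheaf.stalk x) := inferInstance
    exact ⟨hd, H28Alg.ufd_of_regular _⟩

variable [IsProper (S ↘ (Spec (CommRingCat.of k)))]

/-- The intersection symbol of the ideal of a curve with an invertible module. -/
theorem intNum_curve [C.Over (Spec (CommRingCat.of k))] [IsProper (C ↘ (Spec (CommRingCat.of k)))]
    [IsIntegral C] (hdim : topologicalKrullDim S = 2) (i : C ⟶ S) [IsClosedImmersion i]
    (hi : i ≫ (S ↘ (Spec (CommRingCat.of k))) = C ↘ (Spec (CommRingCat.of k)))
    (hI : PicF.IsInvertible (ClSub.idealMod i.ker)) (hC : topologicalKrullDim C = 1) {L L' : S.Modules}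
    (hL : PicF.IsInvertible L) (hL' : PicF.IsInvertible L')
    (e : CohB1.tensorMod L L' ≅ Coh.structureModule S) :
    FGA.intNum k S 2 ![ClSub.idealMod i.ker, L'] (Coh.structureModule S) =
      Curv2.deg k C ((Scheme.Modules.pullback i).obj L) 1 := by
  haveI := isNoetherian k (X := S)
  haveI := isNoetherian k (X := C)
  let O := Coh.structureModule S
  let I := ClSub.idealMod i.ker
  let J := (Coh.push i).obj (Coh.structureModule C)
  have hO : Coh.IsCoh O := H10Coh.isCoh_structureModule' S
  have hl : ∀ A ∈ [L'], PicF.IsInvertible A := by simpa using hL'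
  have hM : ∀ t, PicF.IsInvertible (![I, L'] t) := by
    intro t
    fin_cases t
    · exact hI
    · exact hL'
  rw [intNum_eq k (d := 2) hdim.le ![I, L'] hM hO]
  show D k [L'] O - D k [L'] (CohB1.tensorMod I O) = _
  haveI := H10Coh.epi_toSubscheme i.ker
  have hIc : Coh.IsCoh I := H11Ample.isCoh_of_isInvertible hI
  have hQ : Coh.IsCoh (ClSub.quotMod i.ker) :=
    H10Coh.isCoh_of_iso (H28Vert.quotModKerIso i).symm (LeadDev.isCoh_push_structure i)
  have hadd := (isAddFn_D k [L'] hl).add _ (H10Coh.shortExact_kernel (ClSub.toSubscheme i.ker)) hIc hO hQ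
  change D k [L'] O = D k [L'] I + D k [L'] (ClSub.quotMod i.ker) at hadd
  have h1 : D k [L'] (CohB1.tensorMod I O) = D k [L'] I :=
    (isAddFn_D k [L'] hl).congr (H10Coh.Tw.rightUnitIso I)
  have h2 : D k [L'] (ClSub.quotMod i.ker) = D k [(Scheme.Modules.pullback i).obj L'] (Coh.structureModule C) :=
    ((isAddFn_D k [L'] hl).congr (H28Vert.quotModKerIso i)).trans (Curves.D_push_affine k i hi hL')
  let P := (Scheme.Modules.pullback i).obj L
  let P' := (Scheme.Modules.pullback i).obj L'
  let eP : CohB1.tensorMod P P' ≅ Coh.structureModule C :=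
    ((H16Derived.KFlat.Stalk.pullTensorLIso i L').app L).symm ≪≫
      (Scheme.Modules.pullback i).mapIso e ≪≫ H16Derived.KFlat.Stalk.structurePullbackIso i
  have h3 : D k [P] (Coh.structureModule C) = - D k [P'] (Coh.structureModule C) :=
    H28Vert.D_flip k (l := []) (by simp) (H11Ample.isInvertible_pullback i hL)
      (H11Ample.isInvertible_pullback i hL') eP hC.le
  have h4 : Curv2.deg k C P 1 = - D k [P] (Coh.structureModule C) := by
    show Curv2.euler k C P - (1 : ℕ) * Curv2.euler k C _ = -(Curv2.euler k C _ - Curv2.euler k C _)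
    rw [H25Euler.euler_congr (H10Coh.Tw.rightUnitIso P), Nat.cast_one, one_mul]
    omega
  exact (by omega : D k [L'] O - D k [L'] (CohB1.tensorMod I O) = D k [(Scheme.Modules.pullback i).obj L'] (Coh.structureModule C)).trans
    ((h4.trans ((congrArg Neg.neg h3).trans (neg_neg _))).symm)

end Groth.Agent.H28Int
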