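import Mathlib.Algebra.Group.ForwardDiff
import Mathlib.Algebra.MvPolynomial.Rename
import Mathlib.Algebra.MvPolynomial.Degrees
import Mathlib.RingTheory.Polynomial.Pochhammer
import Mathlib.Data.Fin.Tuple.Basic
import Mathlib.Algebra.Polynomial.AlgebraMap
import Mathlib.Algebra.Polynomial.BigOperators

/-!
# Functions on natural tuples with vanishing iterated differences are polynomial
-/

set_option autoImplicit false

open scoped fwdDiff

namespace Groth.Agent.H28Int.Diff

variable {n : ℕ}

/-- The difference in the `i`-th variable. -/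
def Di (i : Fin n) (f : (Fin n → ℕ) → ℚ) : (Fin n → ℕ) → ℚ := fun m => f (m + Pi.single i 1) - f m

/-- All differences of order `r` vanish. -/
def Van : ℕ → ((Fin n → ℕ) → ℚ) → Prop
  | 0, f => ∀ m, f m = 0
  | r + 1, f => ∀ i, Van r (Di i f)

theorem van_succ : ∀ (r : ℕ) (f : (Fin n → ℕ) → ℚ), Van r f → Van (r + 1) f
  | 0, f, h => fun i m => by show _ - _ = (0 : ℚ); rw [h _, h m, sub_zero]
  | r + 1, f, h => fun i => van_succ r (Di i f) (h i)

theorem van_zero (r : ℕ) : Van (n := n) r fun _ => 0 := by
  induction r with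
  | zero => exact fun _ => rfl
  | succ r ih => exact fun i => by convert ih using 1; funext m; simp [Di]

/-- Restriction to the hyperplane of tuples starting with zero. -/
def slice (f : (Fin (n + 1) → ℕ) → ℚ) : (Fin n → ℕ) → ℚ := fun m => f (Fin.cons 0 m)

theorem van_slice : ∀ (r : ℕ) (f : (Fin (n + 1) → ℕ) → ℚ), Van r f → Van r (slice f)
  | 0, _, h => fun _ => h _
  | r + 1, f, h => fun i => by
    have e : Di i (slice f) = slice (Di i.succ f) := by
      funext m
      simp only [Di, slice]
      congr 2
      funext j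
      cases j using Fin.cases with
      | zero => simp [Fin.succ_ne_zero, Pi.single_apply, (Fin.succ_ne_zero i).symm]
      | succ j => simp [Pi.single_apply, Fin.succ_inj]
    rw [e]
    exact van_slice r _ (h i.succ)

theorem van_iterate (i : Fin n) : ∀ (a r : ℕ) (f : (Fin n → ℕ) → ℚ), Van (r + a) f → Van r ((Di i)^[a] f)
  | 0, _, _, h => h
  | a + 1, r, f, h => by
    rw [Function.iterate_succ_apply]
    exact van_iterate i a r (Di i f) (h i)

theorem iterate_Di_zero (f : (Fin (n + 1) → ℕ) → ℚ) (m : Fin n → ℕ) : ∀ (a : ℕ) (t : ℕ),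
    (Di 0)^[a] f (Fin.cons t m) = (Δ_[(1 : ℕ)])^[a] (fun s => f (Fin.cons s m)) t
  | 0, t => rfl
  | a + 1, t => by
    have e : (Fin.cons t m : Fin (n + 1) → ℕ) + Pi.single 0 1 = Fin.cons (t + 1) m := by
      funext j
      cases j using Fin.cases with
      | zero => simp
      | succ j => simp [Pi.single_apply, Fin.succ_ne_zero]
    rw [Function.iterate_succ_apply', Function.iterate_succ_apply']
    show (Di 0)^[a] f (_ + _) - (Di 0)^[a] f _ = _
    rw [e, iterate_Di_zero f m a (t + 1), iterate_Di_zero f m a t]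
    rfl

theorem totalDegree_aeval_X_le (p : Polynomial ℚ) (i : Fin n) :
    (Polynomial.aeval (MvPolynomial.X i : MvPolynomial (Fin n) ℚ) p).totalDegree ≤ p.natDegree := by
  rw [Polynomial.aeval_eq_sum_range]
  refine MvPolynomial.totalDegree_finsetSum_le fun j hj => ?_
  refine (MvPolynomial.totalDegree_smul_le _ _).trans ?_
  rw [MvPolynomial.totalDegree_X_pow]
  exact Nat.le_of_lt_succ (Finset.mem_range.1 hj)

/-- Functions with vanishing differences of order `r + 1` are polynomials of degree at most `r`. -/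
theorem exists_poly : ∀ (n r : ℕ) (f : (Fin n → ℕ) → ℚ), Van (r + 1) f →
    ∃ P : MvPolynomial (Fin n) ℚ, P.totalDegree ≤ r ∧
      ∀ m : Fin n → ℕ, f m = MvPolynomial.eval (fun i => (m i : ℚ)) P
  | 0, r, f, _ => ⟨MvPolynomial.C (f Fin.elim0), by simp, fun m => by
      simp [Subsingleton.elim m Fin.elim0]⟩
  | n + 1, r, f, h => by
    have hg : ∀ a, a ≤ r → ∃ P : MvPolynomial (Fin n) ℚ, P.totalDegree ≤ r - a ∧
        ∀ m : Fin n → ℕ, slice ((Di 0)^[a] f) m = MvPolynomial.eval (fun i => (m i : ℚ)) P := fun a ha =>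
      exists_poly n (r - a) _ (van_slice _ _ (van_iterate 0 a _ f (by
        rwa [show r - a + 1 + a = r + 1 by omega])))
    choose P hPd hP using hg
    refine ⟨∑ a : Fin (r + 1), MvPolynomial.C (1 / ((a : ℕ).factorial : ℚ)) *
      (Polynomial.aeval (MvPolynomial.X 0 : MvPolynomial (Fin (n + 1)) ℚ) (descPochhammer ℚ (a : ℕ)) *
        MvPolynomial.rename Fin.succ (P a (Nat.le_of_lt_succ a.2))), ?_, fun m => ?_⟩
    · refine MvPolynomial.totalDegree_finsetSum_le fun a _ => ?_
      refine (MvPolynomial.totalDegree_mul _ _).trans ?_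
      rw [MvPolynomial.totalDegree_C, Nat.zero_add]
      refine (MvPolynomial.totalDegree_mul _ _).trans ?_
      have h1 := (totalDegree_aeval_X_le (n := n + 1) (descPochhammer ℚ (a : ℕ)) 0)
      rw [descPochhammer_natDegree] at h1
      have h2 := (MvPolynomial.totalDegree_rename_le (f := Fin.succ) (P a (Nat.le_of_lt_succ a.2))).trans
        (hPd a (Nat.le_of_lt_succ a.2))
      have := a.2
      omega
    · have hhigh : ∀ a, r + 1 ≤ a → ∀ m' : Fin n → ℕ, (Di 0)^[a] f (Fin.cons 0 m') = 0 := by
        intro a ha m'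
        have hv : Van a f := by
          induction a, ha using Nat.le_induction with
          | base => exact h
          | succ a _ ih => exact van_succ a f ih
        exact van_iterate 0 a 0 f (by rwa [Nat.zero_add]) _
      have hnewton := shift_eq_sum_fwdDiff_iter (1 : ℕ) (fun s => f (Fin.cons s (Fin.tail m))) (m 0) 0
      simp only [smul_eq_mul, mul_one, Nat.zero_add, Fin.cons_self_tail, ← iterate_Di_zero] at hnewton
      rw [map_sum]
      refine (hnewton.trans ?_).trans (Eq.symm ((Finset.sum_congr rfl fun (a : Fin (r + 1)) _ =>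
        (dif_pos (Nat.le_of_lt_succ a.2)).symm).trans (Fin.sum_univ_eq_sum_range (fun a => if ha : a ≤ r then
        MvPolynomial.eval (fun i => (m i : ℚ)) (MvPolynomial.C (1 / (a.factorial : ℚ)) *
          (Polynomial.aeval (MvPolynomial.X 0 : MvPolynomial (Fin (n + 1)) ℚ) (descPochhammer ℚ a) *
            MvPolynomial.rename Fin.succ (P a ha))) else 0) (r + 1))))
      refine ((Finset.sum_subset (Finset.range_mono (Nat.le_add_right (m 0 + 1) (r + 1))) fun a _ ha => by
        rw [Nat.choose_eq_zero_of_lt (by simpa using ha), zero_smul]).trans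
        (Finset.sum_subset (Finset.range_mono (Nat.le_add_left (r + 1) (m 0 + 1))) fun a _ ha => by
        rw [hhigh a (by simpa using ha), smul_zero]).symm).trans ?_
      refine Finset.sum_congr rfl fun a ha => ?_
      have ha' : a ≤ r := Nat.le_of_lt_succ (Finset.mem_range.1 ha)
      rw [dif_pos ha', map_mul, map_mul, MvPolynomial.eval_C, MvPolynomial.eval_rename,
        nsmul_eq_mul, Nat.cast_choose_eq_descPochhammer_div]
      have e := hP a ha' (Fin.tail m)
      simp only [slice] at e
      rw [e]
      have e2 : MvPolynomial.eval (fun i => (m i : ℚ))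
          (Polynomial.aeval (MvPolynomial.X 0 : MvPolynomial (Fin (n + 1)) ℚ) (descPochhammer ℚ a)) =
          (descPochhammer ℚ a).eval (m 0 : ℚ) := by
        rw [← MvPolynomial.coe_aeval_eq_eval]
        show MvPolynomial.aeval (fun i => (m i : ℚ)) (Polynomial.aeval _ _) = _
        rw [← Polynomial.aeval_algHom_apply, MvPolynomial.aeval_X, Polynomial.coe_aeval_eq_eval]
      rw [e2]
      simp only [Function.comp_def, Fin.tail]
      ring

end Groth.Agent.H28Int.Diff
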